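import Groth.Agent.Lib.RetrDesc20.Basic
import Groth.Agent.Lib.UnipPts20.Alg
import Groth.Agent.Lib.MultType.QuasiIso
import Groth.Agent.Lib.MTSub29.Points
import Groth.Agent.S4128

/-!
# Retractions over an algebraic closure
-/

set_option autoImplicit false
set_option linter.style.haveILetI false
set_option linter.unusedSectionVars false
set_option maxHeartbeats 1000000
universe u

open TensorProduct WithConv HopfRep

noncomputable section

namespace Groth.Agent.RetrDesc20

variable {k : Type u} [Field k] {A B : Type u} [CommRing A] [HopfAlgebra k A] [CommRing B] [HopfAlgebra k B]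
  (ψ : B →ₐc[k] A) (K : Type u) [Field K] [Algebra k K]

/-- The base change of a bialgebra map. -/
def mapK : K ⊗[k] B →ₐc[K] K ⊗[k] A := Bialgebra.TensorProduct.map (BialgHom.id K K) ψ

@[simp] theorem mapK_tmul (c : K) (b : B) : mapK ψ K (c ⊗ₜ[k] b) = c ⊗ₜ[k] ψ b :=
  Bialgebra.TensorProduct.map_tmul _ _ _ _

theorem mapK_injective (hψ : Function.Injective ψ) : Function.Injective (mapK ψ K) := by
  have h := Module.Flat.lTensor_preserves_injective_linearMap (M := K) ((ψ : B →ₐ[k] A).toLinearMap) hψ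
  have e : ∀ z, mapK ψ K z = ((ψ : B →ₐ[k] A).toLinearMap).lTensor K z := by
    intro z
    induction z using TensorProduct.induction_on with
    | zero => simp
    | tmul c b => simp
    | add p q hp hq => simp only [map_add, hp, hq]
  intro x y hxy
  exact h (by rwa [← e, ← e])

variable [IsAlgClosed K] [Algebra.FiniteType k A] [Algebra.FiniteType k B]

/-- Retractions exist over an algebraically closed extension. -/
theorem exists_retraction_algClosed (hB : SGA3b.IsMultTypeConst k B) (hψ : Function.Injective ψ)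
    (J : Ideal A) [J.IsHopfIdeal k] (hJ : J = Ideal.map (ψ : B →+* A) (RingHom.ker (Bialgebra.counitAlgHom k B)))
    (hU : HopfRep.IsUnipotent k (A ⧸ J)) :
    ∃ R : K ⊗[k] A →ₐc[K] K ⊗[k] B, R.comp (mapK ψ K) = BialgHom.id K (K ⊗[k] B) := by
  let L : Ideal (K ⊗[k] A) := Ideal.map (mapK ψ K) (RingHom.ker (Bialgebra.counitAlgHom K (K ⊗[k] B)))
  haveI : L.IsHopfIdeal K := MultTypeLib.isHopfIdeal_map_aug (mapK ψ K)
  let π : A →ₐc[k] A ⧸ J := Bialgebra.Quotient.mkBialgHom (R := k) J
  haveI : Algebra.FiniteType k (A ⧸ J) :=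
    Algebra.FiniteType.of_surjective (Ideal.Quotient.mkₐ k J) (Ideal.Quotient.mkₐ_surjective k J)
  let πK : K ⊗[k] A →ₐc[K] K ⊗[k] (A ⧸ J) := Bialgebra.TensorProduct.map (BialgHom.id K K) π
  have hπK : Function.Surjective πK := by
    intro y
    induction y using TensorProduct.induction_on with
    | zero => exact ⟨0, map_zero _⟩
    | tmul c b =>
      obtain ⟨a, rfl⟩ := Ideal.Quotient.mk_surjective b
      exact ⟨c ⊗ₜ[k] a, Bialgebra.TensorProduct.map_tmul _ _ _ _⟩
    | add u v hu hv =>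
      obtain ⟨u, rfl⟩ := hu
      obtain ⟨v, rfl⟩ := hv
      exact ⟨u + v, map_add _ _ _⟩
  let q : K ⊗[k] A →ₐc[K] (K ⊗[k] A) ⧸ L := Bialgebra.Quotient.mkBialgHom (R := K) L
  have hker : ∀ z, πK z = 0 → q z = 0 := by
    intro z hz
    have h1 : z ∈ RingHom.ker (Algebra.TensorProduct.map (AlgHom.id k K) (Ideal.Quotient.mkₐ k J)) := hz
    rw [Algebra.TensorProduct.lTensor_ker (Ideal.Quotient.mkₐ k J) (Ideal.Quotient.mkₐ_surjective k J),
      show RingHom.ker (Ideal.Quotient.mkₐ k J) = J from Ideal.Quotient.mkₐ_ker k J] at h1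
    refine Ideal.Quotient.eq_zero_iff_mem.2 ?_
    refine (Ideal.map_le_iff_le_comap (K := L)).2 ?_ h1
    rw [hJ, Ideal.map_le_iff_le_comap]
    intro c hc
    show (1 : K) ⊗ₜ[k] ψ c ∈ L
    rw [← mapK_tmul]
    refine Ideal.mem_map_of_mem (mapK ψ K) (RingHom.mem_ker.2 ?_)
    rw [counit_tmul_field, RingHom.mem_ker.1 hc, map_zero, mul_zero]
  obtain ⟨g, hg⟩ := UnipPts20.exists_descend πK hπK q hker
  have hgs : Function.Surjective g := fun y => by
    obtain ⟨x, rfl⟩ := Ideal.Quotient.mk_surjective y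
    exact ⟨πK x, hg x⟩
  have hUK : HopfRep.IsUnipotent K ((K ⊗[k] A) ⧸ L) :=
    UnipExt20.isUnipotent_of_surjective g hgs ((S7951.result k K (A ⧸ J)).1 hU)
  exact S4128.result K (K ⊗[k] A) (K ⊗[k] B)
    (MTSub29.isDiag_algClosed inferInstance (MultTypeLib.isMultType_of_const hB) K) (mapK ψ K)
    (mapK_injective ψ K hψ) L rfl hUK

variable [Algebra.IsAlgebraic k K]

/-- A retraction over the algebraic closure descends when the kernel is étale and the quotient connected. -/
theorem exists_retraction_of_etale (J : Ideal A) [J.IsHopfIdeal k]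
    (hJ : J = Ideal.map (ψ : B →+* A) (RingHom.ker (Bialgebra.counitAlgHom k B))) [Algebra.Etale k (A ⧸ J)]
    (hH : ∀ e : B, IsIdempotentElem e → e = 0 ∨ e = 1)
    (R : K ⊗[k] A →ₐc[K] K ⊗[k] B) (hR : R.comp (mapK ψ K) = BialgHom.id K (K ⊗[k] B)) :
    ∃ r : A →ₐc[k] B, r.comp ψ = BialgHom.id k B := by
  let F : A →ₐ[k] K ⊗[k] B :=
    (AlgHom.restrictScalars k (R : K ⊗[k] A →ₐ[K] K ⊗[k] B)).comp Algebra.TensorProduct.includeRight
  have hFψ : ∀ b, F (ψ b) = (1 : K) ⊗ₜ[k] b := fun b => by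
    have h := DFunLike.congr_fun hR ((1 : K) ⊗ₜ[k] b)
    rw [BialgHom.comp_apply, mapK_tmul] at h
    exact h
  let εK : K ⊗[k] B →ₐ[k] K := (Bialgebra.counitAlgHom K (K ⊗[k] B)).restrictScalars k
  have hεF : ∀ a, εK (F a) = algebraMap k K (Bialgebra.counitAlgHom k A a) := fun a => by
    show Bialgebra.counitAlgHom K (K ⊗[k] B) (R ((1 : K) ⊗ₜ[k] a)) = _
    refine (CoalgHomClass.counit_comp_apply R _).trans ?_
    exact (counit_tmul_field (1 : K) a).trans (one_mul _)
  have hconn := UnipPts20.idem_baseChange (Bialgebra.counitAlgHom k B) hH K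
  have hidem : ∀ e : K ⊗[k] B, IsIdempotentElem e → εK e = 0 → e = 0 := fun e he h0 =>
    (hconn e he).resolve_right fun h1 => one_ne_zero (α := K) (by rw [← h0, h1, map_one])
  have htw : ∀ (σ : K →ₐ[k] K), (Algebra.TensorProduct.map σ (AlgHom.id k B)).comp F = F := by
    intro σ
    refine eq_of_etale (K := K) ψ J hJ εK hidem _ _ (fun b => ?_) (AlgHom.ext fun a => ?_)
    · rw [AlgHom.comp_apply, hFψ, Algebra.TensorProduct.map_tmul, map_one, AlgHom.id_apply]
    · show εK (Algebra.TensorProduct.map σ (AlgHom.id k B) (F a)) = εK (F a)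
      rw [hεF]
      have hnat : ∀ z : K ⊗[k] B, εK (Algebra.TensorProduct.map σ (AlgHom.id k B) z) = σ (εK z) := by
        intro z
        induction z using TensorProduct.induction_on with
        | zero => simp
        | add p q hp hq => simp only [map_add, hp, hq]
        | tmul c b =>
          show Bialgebra.counitAlgHom K (K ⊗[k] B) (σ c ⊗ₜ[k] b) = σ (Bialgebra.counitAlgHom K (K ⊗[k] B) (c ⊗ₜ[k] b))
          rw [counit_tmul_field, counit_tmul_field, map_mul, AlgHom.commutes]
      rw [hnat, hεF, AlgHom.commutes]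
  let P := evalAll (k := k) K B
  have heq : (d₁ K B).comp F = (d₂ K B).comp F := by
    refine eq_of_etale (K := K) ψ J hJ P (fun e he h0 => he.eq_zero_of_isNilpotent (isNilpotent_of_evalAll_eq_zero h0))
      _ _ (fun b => ?_) (AlgHom.ext fun a => funext fun χ => ?_)
    · simp [hFψ, d₁, d₂]
    · show evalAll K B (d₁ K B (F a)) χ = evalAll K B (d₂ K B (F a)) χ
      rw [evalAll_d₁, evalAll_d₂]
      exact (DFunLike.congr_fun (htw (twist χ)) a).symm
  obtain ⟨r, hr⟩ := exists_bialgHom_of_rational R fun a => exists_of_pullback_eq (DFunLike.congr_fun heq a)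
  refine ⟨r, BialgHom.ext fun b => ?_⟩
  refine Algebra.TensorProduct.includeRight_injective (R := k) (A := K) (algebraMap k K).injective ?_
  show (1 : K) ⊗ₜ[k] r (ψ b) = (1 : K) ⊗ₜ[k] b
  rw [hr]
  exact hFψ b

end Groth.Agent.RetrDesc20
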