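import Groth.Agent.Lib.HopfFF23.Range
import Groth.Agent.Lib.Unip23.Primitive
import Groth.Prelude.Def_SGA3b
import Mathlib.RingTheory.HopfAlgebra.Quotient
import Mathlib.RingTheory.Bialgebra.TensorProduct
import Mathlib.RingTheory.HopfAlgebra.TensorProduct
import Mathlib.FieldTheory.IsAlgClosed.Basic
import Mathlib.LinearAlgebra.TensorProduct.Basis

/-!
# Descending retractions of extensions from an algebraic closure
-/

set_option autoImplicit false
set_option linter.style.haveILetI false
set_option linter.unusedSectionVars false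
set_option maxHeartbeats 1000000
universe u

open TensorProduct WithConv

noncomputable section

namespace Groth.Agent.RetrDesc20

variable {k : Type u} [Field k]

section Diff

variable {A B : Type u} [CommRing A] [HopfAlgebra k A] [CommRing B] [HopfAlgebra k B] (ψ : B →ₐc[k] A)
  (J : Ideal A) [J.IsHopfIdeal k]

/-- Two points with the same image in the quotient differ by a point of the kernel. -/
theorem exists_diff (hJ : J = Ideal.map (ψ : B →+* A) (RingHom.ker (Bialgebra.counitAlgHom k B)))
    {S : Type u} [CommRing S] [Algebra k S] (f g : A →ₐ[k] S) (h : ∀ b, f (ψ b) = g (ψ b)) :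
    ∃ D : (A ⧸ J) →ₐ[k] S,
      ((∀ u, D u = algebraMap k S (Bialgebra.counitAlgHom k (A ⧸ J) u)) → f = g) ∧
      ∀ (P : Type u) [CommRing P] [Algebra k P] (π : S →ₐ[k] P), π.comp f = π.comp g →
        ∀ u, π (D u) = algebraMap k P (Bialgebra.counitAlgHom k (A ⧸ J) u) := by
  let fS : A →ₐ[k] S := f.comp (HopfAlgebra.antipodeAlgHom k A)
  let d : WithConv (A →ₐ[k] S) := toConv fS * toConv g
  have hff : toConv f * toConv fS = 1 := by
    have := congrArg (fun z : WithConv (A →ₐ[k] A) => toConv (f.comp z.ofConv))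
      (Groth.Agent.Unip23.conv_mul_antipode (k := k) (A := A))
    simp only [AlgHom.comp_convMul_distrib, Groth.Agent.HopfFF23.comp_convOne] at this
    exact this
  have hdψ : d.ofConv.comp (ψ : B →ₐ[k] A) = (1 : WithConv (B →ₐ[k] S)).ofConv := by
    have hfg : g.comp (ψ : B →ₐ[k] A) = f.comp (ψ : B →ₐ[k] A) := AlgHom.ext fun c => (h c).symm
    have e0 : (HopfAlgebra.antipodeAlgHom k A).comp (ψ : B →ₐ[k] A) =
        (ψ : B →ₐ[k] A).comp (HopfAlgebra.antipodeAlgHom k B) :=
      AlgHom.ext fun c => (Groth.Agent.HopfFF23.map_antipode ψ c).symm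
    have e1 := congrArg (fun z : WithConv (B →ₐ[k] B) => toConv ((f.comp (ψ : B →ₐ[k] A)).comp z.ofConv))
      (Groth.Agent.HopfFF23.conv_antipode_mul (R := k) (C := B))
    simp only [AlgHom.comp_convMul_distrib, Groth.Agent.HopfFF23.comp_convOne] at e1
    show (toConv fS * toConv g).ofConv.comp _ = _
    rw [AlgHom.convMul_comp_bialgHom_distrib, ofConv_toConv, ofConv_toConv, hfg, AlgHom.comp_assoc, e0,
      ← AlgHom.comp_assoc]
    exact congrArg WithConv.ofConv e1
  have hJd : J ≤ RingHom.ker d.ofConv := by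
    rw [hJ]
    refine Ideal.map_le_iff_le_comap.2 fun c hc => ?_
    show d.ofConv (ψ c) = 0
    refine (AlgHom.congr_fun hdψ c).trans ?_
    show algebraMap k S (CoalgebraStruct.counit c) = 0
    rw [show CoalgebraStruct.counit (R := k) c = 0 from hc, map_zero]
  let D : (A ⧸ J) →ₐ[k] S := Ideal.Quotient.liftₐ J d.ofConv fun a ha => hJd ha
  have hDmk : ∀ a, D (Ideal.Quotient.mk J a) = d.ofConv a := fun a => rfl
  refine ⟨D, fun hD => ?_, fun P _ _ π hπ u => ?_⟩
  · have hd1 : d = 1 := by
      refine ofConv_injective (AlgHom.ext fun a => ?_)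
      rw [← hDmk, hD]
      rfl
    have h3 : toConv g = toConv f := by
      calc toConv g = (toConv f * toConv fS) * toConv g := by rw [hff, one_mul]
        _ = toConv f * d := mul_assoc (G := WithConv (A →ₐ[k] S)) _ _ _
        _ = toConv f := by rw [hd1, mul_one]
    exact (congrArg WithConv.ofConv h3).symm
  · obtain ⟨a, rfl⟩ := Ideal.Quotient.mk_surjective u
    rw [hDmk]
    have h1 : toConv (π.comp d.ofConv) = (1 : WithConv (A →ₐ[k] P)) := by
      show toConv (π.comp (toConv fS * toConv g).ofConv) = 1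
      rw [AlgHom.comp_convMul_distrib]
      simp only [toConv_ofConv, ofConv_toConv]
      rw [← hπ]
      have := congrArg (fun z : WithConv (A →ₐ[k] A) => toConv ((π.comp f).comp z.ofConv))
        (Groth.Agent.HopfFF23.conv_antipode_mul (R := k) (C := A))
      simp only [AlgHom.comp_convMul_distrib, Groth.Agent.HopfFF23.comp_convOne] at this
      exact this
    exact AlgHom.congr_fun (congrArg WithConv.ofConv h1) a

variable {K : Type u} [Field K] [Algebra k K]

theorem counit_tmul_field {C : Type u} [CommRing C] [HopfAlgebra k C] (c : K) (v : C) :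
    Bialgebra.counitAlgHom K (K ⊗[k] C) (c ⊗ₜ[k] v) = c * algebraMap k K (Bialgebra.counitAlgHom k C v) := by
  simp [Algebra.smul_def, mul_comm]

/-- Two points agree when they agree along a map reflecting trivial idempotents and the kernel is étale. -/
theorem eq_of_etale (hJ : J = Ideal.map (ψ : B →+* A) (RingHom.ker (Bialgebra.counitAlgHom k B)))
    [Algebra.Etale k (A ⧸ J)] {S : Type u} [CommRing S] [Algebra k S] [Algebra K S] [IsScalarTower k K S]
    {P : Type u} [CommRing P] [Algebra k P] (π : S →ₐ[k] P)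
    (hidem : ∀ e : S, IsIdempotentElem e → π e = 0 → e = 0)
    (f g : A →ₐ[k] S) (h : ∀ b, f (ψ b) = g (ψ b)) (hπ : π.comp f = π.comp g) : f = g := by
  obtain ⟨D, hD1, hD2⟩ := exists_diff ψ J hJ f g h
  refine hD1 fun u => ?_
  let W := K ⊗[k] (A ⧸ J)
  haveI : Algebra.Etale K W := inferInstance
  haveI : IsReduced W := Algebra.FormallyUnramified.isReduced_of_field K W
  haveI : Module.Finite K W := Algebra.FormallyUnramified.finite_of_free K W
  haveI : IsArtinianRing W := IsArtinianRing.of_finite K W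
  haveI : IsSemisimpleRing W := IsArtinianRing.isSemisimpleRing_of_isReduced W
  let εW : W →ₐ[K] K := Bialgebra.counitAlgHom K W
  let DK : W →ₐ[K] S := Algebra.TensorProduct.lift (Algebra.ofId K S) D (fun _ _ => Commute.all _ _)
  have hπW : ∀ x : W, π (DK x) = π (algebraMap K S (εW x)) := by
    intro x
    induction x using TensorProduct.induction_on with
    | zero => simp
    | add p q hp hq => simp only [map_add, hp, hq]
    | tmul c v =>
      have h2 : εW (c ⊗ₜ[k] v) = c * algebraMap k K (Bialgebra.counitAlgHom k (A ⧸ J) v) := by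
        exact counit_tmul_field c v
      rw [h2, map_mul (algebraMap K S), ← IsScalarTower.algebraMap_apply, map_mul π, AlgHom.commutes]
      show π (algebraMap K S c * D v) = _
      rw [map_mul, hD2 P π hπ]
  obtain ⟨e, he, hker⟩ := IsSemisimpleRing.ideal_eq_span_idempotent (RingHom.ker εW)
  have he0 : DK e = 0 := hidem _ (he.map DK) (by
    have hmem : e ∈ RingHom.ker εW := by rw [hker]; exact Ideal.mem_span_singleton_self e
    rw [hπW, RingHom.mem_ker.1 hmem, map_zero, map_zero])
  have hzero : ∀ x : W, εW x = 0 → DK x = 0 := fun x hx => by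
    have hx' : x ∈ Ideal.span {e} := hker ▸ RingHom.mem_ker.2 hx
    obtain ⟨y, rfl⟩ := Ideal.mem_span_singleton.1 hx'
    rw [map_mul, he0, zero_mul]
  let x : W := (1 : K) ⊗ₜ[k] u - algebraMap K W (εW ((1 : K) ⊗ₜ[k] u))
  have hx := hzero x (by simp only [x, map_sub, AlgHom.commutes, Algebra.algebraMap_self, RingHom.id_apply, sub_self])
  simp only [x, map_sub, AlgHom.commutes, sub_eq_zero] at hx
  rw [show D u = DK ((1 : K) ⊗ₜ[k] u) from
    ((Algebra.TensorProduct.lift_tmul _ _ _ (1 : K) u).trans (by rw [map_one, one_mul])).symm, hx,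
    show εW ((1 : K) ⊗ₜ[k] u) = algebraMap k K (Bialgebra.counitAlgHom k (A ⧸ J) u) from
      (counit_tmul_field (1 : K) u).trans (one_mul _), ← IsScalarTower.algebraMap_apply]

end Diff

section Descent

variable (K : Type u) [Field K] [Algebra k K] (B : Type u) [CommRing B] [Algebra k B]

/-- The first pullback to `K ⊗ K`. -/
def d₁ : K ⊗[k] B →ₐ[k] (K ⊗[k] K) ⊗[k] B :=
  Algebra.TensorProduct.map (Algebra.TensorProduct.includeLeft : K →ₐ[k] K ⊗[k] K) (AlgHom.id k B)

/-- The second pullback to `K ⊗ K`. -/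
def d₂ : K ⊗[k] B →ₐ[k] (K ⊗[k] K) ⊗[k] B :=
  Algebra.TensorProduct.map (Algebra.TensorProduct.includeRight : K →ₐ[k] K ⊗[k] K) (AlgHom.id k B)

variable {K B}

/-- Elements with equal pullbacks descend. -/
theorem exists_of_pullback_eq {z : K ⊗[k] B} (h : d₁ K B z = d₂ K B z) : ∃ b : B, (1 : K) ⊗ₜ[k] b = z := by
  obtain ⟨l, hl⟩ : ∃ l : K →ₗ[k] k, l 1 = 1 := by
    obtain ⟨l₀, hl₀⟩ := LinearMap.exists_leftInverse_of_injective (Algebra.linearMap k K)
      (LinearMap.ker_eq_bot.2 (algebraMap k K).injective)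
    exact ⟨l₀, by simpa using LinearMap.congr_fun hl₀ 1⟩
  let Φ : (K ⊗[k] K) ⊗[k] B →ₗ[k] K ⊗[k] B :=
    ((TensorProduct.rid k K).toLinearMap ∘ₗ l.lTensor K).rTensor B
  let β : K ⊗[k] B →ₗ[k] B := (TensorProduct.lid k B).toLinearMap ∘ₗ l.rTensor B
  have h1 : ∀ w, Φ (d₁ K B w) = w := by
    intro w
    induction w with
    | zero => simp
    | add p q hp hq => simp only [map_add, hp, hq]
    | tmul c b => simp [Φ, d₁, hl]
  have h2 : ∀ w, Φ (d₂ K B w) = (1 : K) ⊗ₜ[k] β w := by
    intro w
    induction w with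
    | zero => simp
    | add p q hp hq => simp only [map_add, hp, hq, TensorProduct.tmul_add]
    | tmul c b => simp [Φ, d₂, β, TensorProduct.smul_tmul]
  refine ⟨β z, ?_⟩
  rw [← h2, ← h, h1]

variable (K B) in
/-- Evaluation of `(K ⊗ K) ⊗ B` at all `K`-points of `K ⊗ K`. -/
def evalAll : (K ⊗[k] K) ⊗[k] B →ₐ[k] ((K ⊗[k] K →ₐ[K] K) → K ⊗[k] B) :=
  AlgHom.pi fun χ => Algebra.TensorProduct.map (χ.restrictScalars k) (AlgHom.id k B)

theorem isNilpotent_of_evalAll_eq_zero [IsAlgClosed K] [Algebra.IsAlgebraic k K]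
    {z : (K ⊗[k] K) ⊗[k] B} (h : evalAll K B z = 0) : IsNilpotent z := by
  haveI : Algebra.IsIntegral k K := Algebra.IsAlgebraic.isIntegral
  let b := Module.Free.chooseBasis k B
  let e := TensorProduct.equivFinsuppOfBasisRight (M := K ⊗[k] K) b
  have hz : z = (e z).sum fun i m => m ⊗ₜ[k] b i := by
    conv_lhs => rw [← e.symm_apply_apply z]
    exact TensorProduct.equivFinsuppOfBasisRight_symm_apply b (e z)
  have hchi : ∀ (χ : K ⊗[k] K →ₐ[K] K) i, χ (e z i) = 0 := by
    intro χ i
    have hnat : ∀ y : (K ⊗[k] K) ⊗[k] B, TensorProduct.equivFinsuppOfBasisRight (M := K) b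
        (Algebra.TensorProduct.map (χ.restrictScalars k) (AlgHom.id k B) y) i = χ (e y i) := by
      intro y
      induction y with
      | zero => simp
      | add p q hp hq => simp only [map_add, Finsupp.add_apply, hp, hq]
      | tmul r v =>
        simp [e]
        exact ((χ.restrictScalars k).toLinearMap.map_smul (b.repr v i) r).symm
    have h0 : Algebra.TensorProduct.map (χ.restrictScalars k) (AlgHom.id k B) z = 0 := congrFun h χ
    rw [← hnat, h0, map_zero, Finsupp.zero_apply]
  have hnil : ∀ i, IsNilpotent (e z i) := by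
    intro i
    refine nilpotent_iff_mem_prime.2 fun P hP => ?_
    haveI := hP
    haveI : IsDomain ((K ⊗[k] K) ⧸ P) := Ideal.Quotient.isDomain P
    haveI : Algebra.IsIntegral K (K ⊗[k] K) := Algebra.IsIntegral.tensorProduct k K K
    haveI : Algebra.IsIntegral K ((K ⊗[k] K) ⧸ P) :=
      Algebra.IsIntegral.of_surjective (Ideal.Quotient.mkₐ K P) (Ideal.Quotient.mkₐ_surjective K P)
    let E : K ≃ₐ[K] (K ⊗[k] K) ⧸ P :=
      AlgEquiv.ofBijective (Algebra.ofId K _) IsAlgClosed.algebraMap_bijective_of_isIntegral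
    have h1 := hchi (E.symm.toAlgHom.comp (Ideal.Quotient.mkₐ K P)) i
    exact Ideal.Quotient.eq_zero_iff_mem.1 ((map_eq_zero_iff _ E.symm.injective).1 h1)
  have hmem : ∀ w ∈ (e z).support, IsNilpotent (e z w ⊗ₜ[k] b w) := by
    intro w _
    obtain ⟨n, hn⟩ := hnil w
    exact ⟨n, by rw [Algebra.TensorProduct.tmul_pow, hn, TensorProduct.zero_tmul]⟩
  rw [hz]
  exact isNilpotent_sum hmem

theorem evalAll_d₁ (z : K ⊗[k] B) (χ : K ⊗[k] K →ₐ[K] K) : evalAll K B (d₁ K B z) χ = z := by
  show Algebra.TensorProduct.map (χ.restrictScalars k) (AlgHom.id k B) (d₁ K B z) = z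
  induction z with
  | zero => simp
  | add p q hp hq => simp only [map_add, hp, hq]
  | tmul c b =>
    simp only [d₁, Algebra.TensorProduct.map_tmul, AlgHom.id_apply, Algebra.TensorProduct.includeLeft_apply]
    congr 1
    show χ (c ⊗ₜ[k] (1 : K)) = c
    exact χ.commutes c

/-- The field endomorphism attached to a point of `K ⊗ K`. -/
def twist (χ : K ⊗[k] K →ₐ[K] K) : K →ₐ[k] K :=
  (χ.restrictScalars k).comp Algebra.TensorProduct.includeRight

theorem evalAll_d₂ (z : K ⊗[k] B) (χ : K ⊗[k] K →ₐ[K] K) :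
    evalAll K B (d₂ K B z) χ = Algebra.TensorProduct.map (twist χ) (AlgHom.id k B) z := by
  show Algebra.TensorProduct.map (χ.restrictScalars k) (AlgHom.id k B) (d₂ K B z) = _
  induction z with
  | zero => simp
  | add p q hp hq => simp only [map_add, hp, hq]
  | tmul c b => rfl

end Descent

section Bialg

variable {A B : Type u} [CommRing A] [HopfAlgebra k A] [CommRing B] [HopfAlgebra k B] {K : Type u} [Field K]
  [Algebra k K]

/-- The canonical map `B ⊗ B → (K ⊗ B) ⊗ (K ⊗ B)`. -/
def incl₂ : B ⊗[k] B →ₗ[k] (K ⊗[k] B) ⊗[K] (K ⊗[k] B) :=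
  ((TensorProduct.AlgebraTensorModule.distribBaseChange k K B B).toLinearMap.restrictScalars k) ∘ₗ
    TensorProduct.mk k K (B ⊗[k] B) 1

theorem incl₂_tmul (b c : B) : incl₂ (K := K) (b ⊗ₜ[k] c) = ((1 : K) ⊗ₜ[k] b) ⊗ₜ[K] ((1 : K) ⊗ₜ[k] c) := by
  simp [incl₂, TensorProduct.AlgebraTensorModule.distribBaseChange]

theorem incl₂_injective : Function.Injective (incl₂ (k := k) (B := B) (K := K)) := by
  intro x y hxy
  exact Algebra.TensorProduct.includeRight_injective (R := k) (A := K) (B := B ⊗[k] B) (algebraMap k K).injective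
    ((TensorProduct.AlgebraTensorModule.distribBaseChange k K B B).injective hxy)

theorem comul_one_tmul (b : B) :
    CoalgebraStruct.comul (R := K) ((1 : K) ⊗ₜ[k] b) = incl₂ (K := K) (CoalgebraStruct.comul (R := k) b) := by
  rw [TensorProduct.comul_def]
  simp only [LinearMap.comp_apply, TensorProduct.AlgebraTensorModule.map_tmul, CommSemiring.comul_apply,
    LinearEquiv.coe_coe]
  induction CoalgebraStruct.comul (R := k) b with
  | zero => simp
  | add p q hp hq => simp only [TensorProduct.tmul_add, map_add, hp, hq]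
  | tmul p q => simp [incl₂_tmul]

/-- A bialgebra map over `K` descends once its values on `1 ⊗ a` are rational. -/
theorem exists_bialgHom_of_rational (R : K ⊗[k] A →ₐc[K] K ⊗[k] B)
    (h : ∀ a : A, ∃ b : B, (1 : K) ⊗ₜ[k] b = R ((1 : K) ⊗ₜ[k] a)) :
    ∃ r : A →ₐc[k] B, ∀ a : A, (1 : K) ⊗ₜ[k] r a = R ((1 : K) ⊗ₜ[k] a) := by
  choose r hr using h
  have hinj : Function.Injective (Algebra.TensorProduct.includeRight : B →ₐ[k] K ⊗[k] B) :=
    Algebra.TensorProduct.includeRight_injective (algebraMap k K).injective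
  let F : A →ₐ[k] K ⊗[k] B :=
    (AlgHom.restrictScalars k (R : K ⊗[k] A →ₐ[K] K ⊗[k] B)).comp Algebra.TensorProduct.includeRight
  have hF : ∀ a, Algebra.TensorProduct.includeRight (R := k) (A := K) (r a) = F a := hr
  let r₀ : A →ₐ[k] B :=
    { toFun := r
      map_one' := hinj (by rw [hF, map_one, map_one])
      map_mul' := fun x y => hinj (by rw [map_mul Algebra.TensorProduct.includeRight, hF, hF, hF, map_mul])
      map_zero' := hinj (by rw [hF, map_zero, map_zero])
      map_add' := fun x y => hinj (by rw [map_add Algebra.TensorProduct.includeRight, hF, hF, hF, map_add])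
      commutes' := fun c => hinj (by rw [hF, AlgHom.commutes, AlgHom.commutes]) }
  refine ⟨BialgHom.ofAlgHom r₀ (AlgHom.ext fun a => ?_) (AlgHom.ext fun a => ?_), hr⟩
  · refine (algebraMap k K).injective ?_
    show algebraMap k K (CoalgebraStruct.counit (R := k) (r a)) = algebraMap k K (CoalgebraStruct.counit (R := k) a)
    have h1 : ∀ {C : Type u} [CommRing C] [HopfAlgebra k C] (c : C),
        CoalgebraStruct.counit (R := K) ((1 : K) ⊗ₜ[k] c) = algebraMap k K (CoalgebraStruct.counit (R := k) c) :=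
      fun {C} _ _ c => by simp [Algebra.smul_def]
    rw [← h1, ← h1, hr, CoalgHomClass.counit_comp_apply]
  · refine incl₂_injective (K := K) ?_
    show incl₂ (K := K) (Algebra.TensorProduct.map r₀ r₀ (CoalgebraStruct.comul (R := k) a)) =
      incl₂ (K := K) (CoalgebraStruct.comul (R := k) (r a))
    rw [← comul_one_tmul, hr, ← CoalgHomClass.map_comp_comul_apply R, comul_one_tmul]
    induction CoalgebraStruct.comul (R := k) a with
    | zero => simp
    | add p q hp hq => simp only [map_add, hp, hq]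
    | tmul p q =>
      rw [Algebra.TensorProduct.map_tmul, incl₂_tmul, incl₂_tmul, TensorProduct.map_tmul]
      show ((1 : K) ⊗ₜ[k] r p) ⊗ₜ[K] ((1 : K) ⊗ₜ[k] r q) = _
      rw [hr, hr]
      rfl

end Bialg

end Groth.Agent.RetrDesc20
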