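import Groth.Agent.Lib.RetrDesc20.Weights

/-!
# Lifting the characters of a diagonalizable kernel of a map to a unipotent group
-/

set_option autoImplicit false
set_option linter.style.haveILetI false
set_option linter.unusedSectionVars false
set_option maxHeartbeats 1000000
universe u

open TensorProduct WithConv HopfRep
open Groth.Agent.CoalgH23
open scoped Classical

noncomputable section

namespace Groth.Agent.RetrDesc20

variable {k : Type u} [Field k] {A C : Type u} [CommRing A] [HopfAlgebra k A] [CommRing C] [HopfAlgebra k C]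
  [Algebra.FiniteType k A] [Algebra.FiniteType k C]
variable (ψ : C →ₐc[k] A) (L : Ideal A) [Ideal.IsHopfIdeal k L]
variable (hL : L = Ideal.map (ψ : C →+* A) (RingHom.ker (Bialgebra.counitAlgHom k C)))
variable (b : Module.Basis (Char (k := k) L) k (A ⧸ L)) (hb : ∀ χ, b χ = χ.1)

include hL in
theorem mk_map (c : C) : Ideal.Quotient.mkₐ k L (ψ c) = algebraMap k (A ⧸ L) (CoalgebraStruct.counit c) := by
  rw [← (Ideal.Quotient.mkₐ k L).commutes]
  refine (Ideal.Quotient.mk_eq_mk_iff_sub_mem _ _).2 ?_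
  rw [hL]
  have h : ψ c - algebraMap k A (CoalgebraStruct.counit c) =
      (ψ : C →+* A) (c - algebraMap k C (CoalgebraStruct.counit c)) := by
    show _ = ψ (c - algebraMap k C (CoalgebraStruct.counit c))
    rw [map_sub, AlgHomClass.commutes]
  rw [h]
  refine Ideal.mem_map_of_mem _ ?_
  show Bialgebra.counitAlgHom k C (c - algebraMap k C (CoalgebraStruct.counit c)) = 0
  rw [map_sub, AlgHom.commutes]
  simp

include hL in
theorem map_mem_WR (c : C) : ψ c ∈ WR (k := k) L 1 := by
  rw [mem_WR]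
  show Algebra.TensorProduct.map (AlgHom.id k A) (Ideal.Quotient.mkₐ k L) (CoalgebraStruct.comul (R := k) (ψ c)) = _
  rw [← CoalgHomClass.map_comp_comul_apply ψ c]
  have e : ∀ z : C ⊗[k] C, Algebra.TensorProduct.map (AlgHom.id k A) (Ideal.Quotient.mkₐ k L)
      (TensorProduct.map (ψ : C →ₗ[k] A) (ψ : C →ₗ[k] A) z) =
      ψ (TensorProduct.rid k C ((CoalgebraStruct.counit (R := k)).lTensor C z)) ⊗ₜ[k] 1 := by
    intro z
    induction z with
    | zero => simp
    | add p q hp hq => simp only [map_add, TensorProduct.add_tmul, hp, hq]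
    | tmul p q =>
      show ψ p ⊗ₜ[k] Ideal.Quotient.mkₐ k L (ψ q) = ψ (CoalgebraStruct.counit (R := k) q • p) ⊗ₜ[k] 1
      rw [mk_map ψ L hL, Algebra.algebraMap_eq_smul_one, TensorProduct.tmul_smul, map_smul, TensorProduct.smul_tmul']
  refine (e _).trans ?_
  rw [Coalgebra.lTensor_counit_comul]
  simp

include hL in
theorem map_mem_WL (c : C) : ψ c ∈ WL (k := k) L 1 := by
  rw [mem_WL]
  show Algebra.TensorProduct.map (Ideal.Quotient.mkₐ k L) (AlgHom.id k A) (CoalgebraStruct.comul (R := k) (ψ c)) = _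
  rw [← CoalgHomClass.map_comp_comul_apply ψ c]
  have e : ∀ z : C ⊗[k] C, Algebra.TensorProduct.map (Ideal.Quotient.mkₐ k L) (AlgHom.id k A)
      (TensorProduct.map (ψ : C →ₗ[k] A) (ψ : C →ₗ[k] A) z) =
      1 ⊗ₜ[k] ψ (TensorProduct.lid k C ((CoalgebraStruct.counit (R := k)).rTensor C z)) := by
    intro z
    induction z with
    | zero => simp
    | add p q hp hq => simp only [map_add, TensorProduct.tmul_add, hp, hq]
    | tmul p q =>
      show Ideal.Quotient.mkₐ k L (ψ p) ⊗ₜ[k] ψ q = 1 ⊗ₜ[k] ψ (CoalgebraStruct.counit (R := k) p • q)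
      rw [mk_map ψ L hL, Algebra.algebraMap_eq_smul_one, map_smul, ← TensorProduct.smul_tmul', TensorProduct.tmul_smul]
  refine (e _).trans ?_
  rw [Coalgebra.rTensor_counit_comul]
  simp

include hL in
theorem exists_preimage {a : A} (ha : a ∈ WR (k := k) L 1) : ∃ c : C, ψ c = a := by
  obtain ⟨c, hc⟩ := Unip23.mem_range_of_coinvariant ψ L hL.le (b := a) (Eq.trans (by
    show _ = Algebra.TensorProduct.map (AlgHom.id k A) (Ideal.Quotient.mkₐ k L) (CoalgebraStruct.comul (R := k) a)
    induction CoalgebraStruct.comul (R := k) a with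
    | zero => simp
    | add p q hp hq => simp only [map_add, hp, hq]
    | tmul p q => rfl) (mem_WR.1 ha))
  exact ⟨c, hc⟩

include hb in
/-- The comultiplication of an element of given right weight. -/
theorem comul_eq_of_mem_WR (χ : Char (k := k) L) {a : A} (ha : a ∈ WR (k := k) L χ.1) :
    CoalgebraStruct.comul (R := k) a = (sliceR (pr L b χ)).lTensor A (CoalgebraStruct.comul (R := k) a) := by
  conv_lhs => rw [← sliceR_pr_of_mem L b hb χ ha, comul_sliceR]

include hb in
/-- The comultiplication of an element of given left weight. -/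
theorem comul_eq_of_mem_WL (χ : Char (k := k) L) {a : A} (ha : a ∈ WL (k := k) L χ.1) :
    CoalgebraStruct.comul (R := k) a = (sliceL (pr L b χ)).rTensor A (CoalgebraStruct.comul (R := k) a) := by
  conv_lhs => rw [← sliceL_pr_of_mem L b hb χ ha, comul_sliceL]

include hb in
theorem sliceL_mem_WR (χ : Char (k := k) L) {a : A} (ha : a ∈ WR (k := k) L χ.1) (f : A →ₗ[k] k) :
    sliceL f a ∈ WR (k := k) L χ.1 := by
  show TensorProduct.lid k A (f.rTensor A (CoalgebraStruct.comul (R := k) a)) ∈ _
  rw [comul_eq_of_mem_WR L b hb χ ha]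
  induction CoalgebraStruct.comul (R := k) a with
  | zero => simp
  | add p q hp hq => simp only [map_add]; exact add_mem hp hq
  | tmul p q =>
    simp only [LinearMap.lTensor_tmul, LinearMap.rTensor_tmul, TensorProduct.lid_tmul]
    exact Submodule.smul_mem _ _ (sliceR_pr_mem L b hb χ q)

include hb in
theorem exists_bihom (χ : Char (k := k) L) :
    ∃ y ∈ WR (k := k) L χ.1, y ∈ WL (k := k) L χ.1 ∧ CoalgebraStruct.counit (R := k) y = 1 := by
  obtain ⟨a, ha⟩ := Ideal.Quotient.mkₐ_surjective k L χ.1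
  have hpr : ∀ z, pr L b χ (sliceR (pr L b χ) z) = pr L b χ z := fun z => by
    show b.coord χ (Ideal.Quotient.mkₐ k L (sliceR (pr L b χ) z)) = _
    rw [mk_sliceR_pr L b hb, map_smul, coord_self L b hb, smul_eq_mul, mul_one]
  refine ⟨sliceL (pr L b χ) (sliceR (pr L b χ) a), sliceL_mem_WR L b hb χ (sliceR_pr_mem L b hb χ a) _,
    sliceL_pr_mem L b hb χ _, ?_⟩
  rw [counit_sliceL, hpr]
  show b.coord χ (Ideal.Quotient.mkₐ k L a) = 1
  rw [ha, coord_self L b hb]

include hb in
/-- The elements of given right weight generate the unit ideal. -/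
theorem span_WR_eq_top (χ : Char (k := k) L) : Ideal.span (WR (k := k) L χ.1 : Set A) = ⊤ := by
  obtain ⟨y, hy, -, hy1⟩ := exists_bihom L b hb χ
  refine (Ideal.eq_top_iff_one _).2 ?_
  have h := HopfAlgebra.mul_antipode_rTensor_comul_apply (R := k) y
  rw [comul_eq_of_mem_WR L b hb χ hy, hy1, map_one] at h
  rw [← h]
  induction CoalgebraStruct.comul (R := k) y with
  | zero => simp
  | add p q hp hq => simp only [map_add]; exact add_mem hp hq
  | tmul p q =>
    simp only [LinearMap.lTensor_tmul, LinearMap.rTensor_tmul, LinearMap.mul'_apply]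
    exact Ideal.mul_mem_left _ _ (Ideal.subset_span (sliceR_pr_mem L b hb χ q))

theorem mul_eq_one_char (χ : Char (k := k) L) : HopfAlgebraStruct.antipode (R := k) χ.1 * χ.1 = 1 :=
  χ.2.antipode_mul_cancel

/-- The inverse character. -/
def inv' (χ : Char (k := k) L) : Char (k := k) L := ⟨HopfAlgebraStruct.antipode (R := k) χ.1, χ.2.antipode⟩

variable (hψ : Function.Injective ψ)

include hL hb hψ in
/-- The kernel is central: left and right weights agree. -/
theorem mem_WL_of_mem_WR [IsDomain C] (χ : Char (k := k) L) {x : A} (hx : x ∈ WR (k := k) L χ.1) :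
    x ∈ WL (k := k) L χ.1 := by
  refine mem_WL_of_components L b hb χ fun ξ hξ => ?_
  set z := sliceL (pr L b ξ) x
  have hzR : z ∈ WR (k := k) L χ.1 := sliceL_mem_WR L b hb χ hx _
  have hzL : coL (k := k) L z = ξ.1 ⊗ₜ[k] z := mem_WL.1 (sliceL_pr_mem L b hb ξ x)
  obtain ⟨y, hyR, hyL, hy1⟩ := exists_bihom L b hb χ
  have hyL' := mem_WL.1 hyL
  have hinC : ∀ a ∈ WR (k := k) L (inv' L χ).1, ∀ w ∈ WR (k := k) L χ.1, ∃ c, ψ c = a * w := fun a ha w hw => by
    refine exists_preimage ψ L hL ?_
    rw [← mul_eq_one_char L χ]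
    exact mul_mem_WR ha hw
  have hzero : ∀ a ∈ WR (k := k) L (inv' L χ).1, a * z * y = 0 := by
    intro a ha
    obtain ⟨c, hc⟩ := hinC a ha z hzR
    obtain ⟨d, hd⟩ := hinC a ha y hyR
    have hc' := mem_WL.1 (map_mem_WL ψ L hL c)
    have hd' := mem_WL.1 (map_mem_WL ψ L hL d)
    rw [hc] at hc'
    rw [hd] at hd'
    have e : χ.1 ⊗ₜ[k] (a * z * y) = ξ.1 ⊗ₜ[k] (a * z * y) := by
      have h1 : coL (k := k) L (a * z * y) = χ.1 ⊗ₜ[k] (a * z * y) := by
        rw [map_mul, hc', hyL', Algebra.TensorProduct.tmul_mul_tmul, one_mul]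
      have h2 : coL (k := k) L (a * z * y) = ξ.1 ⊗ₜ[k] (a * z * y) := by
        rw [show a * z * y = a * y * z by ring, map_mul, hd', hzL, Algebra.TensorProduct.tmul_mul_tmul, one_mul]
      rw [← h1, ← h2]
    have h3 := congrArg (fun w => TensorProduct.equivFinsuppOfBasisLeft (N := A) b w χ) e
    simp only [TensorProduct.equivFinsuppOfBasisLeft_apply_tmul_apply] at h3
    rw [← hb χ, ← hb ξ, b.repr_self, b.repr_self, Finsupp.single_eq_same, one_smul,
      Finsupp.single_eq_of_ne (Ne.symm hξ), zero_smul] at h3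
    exact h3
  have htop := span_WR_eq_top L b hb (inv' L χ)
  have key : ∀ w : A, (∀ a ∈ WR (k := k) L (inv' L χ).1, a * w = 0) → w = 0 := by
    intro w hw
    have h : Ideal.span (WR (k := k) L (inv' L χ).1 : Set A) ≤ Submodule.colon (⊥ : Ideal A) {w} :=
      Ideal.span_le.2 fun a ha => Submodule.mem_colon_singleton.2 ((Submodule.mem_bot A).2 (hw a ha))
    have h1 := Submodule.mem_colon_singleton.1 (h (htop ▸ Submodule.mem_top (x := (1 : A))))
    simpa using h1
  by_contra hne
  obtain ⟨a, ha, hane⟩ : ∃ a ∈ WR (k := k) L (inv' L χ).1, a * z ≠ 0 := by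
    by_contra! h
    exact hne (key z h)
  obtain ⟨a', ha', hane'⟩ : ∃ a ∈ WR (k := k) L (inv' L χ).1, a * y ≠ 0 := by
    by_contra! h
    have h0 := key y h
    rw [h0, map_zero] at hy1
    exact zero_ne_one hy1
  obtain ⟨c, hc⟩ := hinC a ha z hzR
  obtain ⟨d, hd⟩ := hinC a' ha' y hyR
  have h0 : c * d = 0 := hψ (by
    rw [map_mul, hc, hd, map_zero, show a * z * (a' * y) = a' * (a * z * y) by ring, hzero a ha, mul_zero])
  rcases mul_eq_zero.1 h0 with h | h
  · exact hane (by rw [← hc, h, map_zero])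
  · exact hane' (by rw [← hd, h, map_zero])

include hb in
theorem mk_eq_of_mem_WR (χ : Char (k := k) L) {a : A} (ha : a ∈ WR (k := k) L χ.1) :
    Ideal.Quotient.mkₐ k L a = CoalgebraStruct.counit (R := k) a • χ.1 := by
  conv_lhs => rw [← sliceR_pr_of_mem L b hb χ ha, mk_sliceR_pr L b hb]
  conv_rhs => rw [← sliceR_pr_of_mem L b hb χ ha, counit_sliceR]

include hb in
theorem antipode_mem_WR (χ : Char (k := k) L) {a : A} (ha : a ∈ WL (k := k) L χ.1) :
    HopfAlgebraStruct.antipode (R := k) a ∈ WR (k := k) L (inv' L χ).1 := by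
  rw [mem_WR]
  show Algebra.TensorProduct.map (AlgHom.id k A) (Ideal.Quotient.mkₐ k L)
    (CoalgebraStruct.comul (R := k) (HopfAlgebraStruct.antipode (R := k) a)) = _
  rw [comul_antipode, comul_eq_of_mem_WL L b hb χ ha]
  conv_rhs => rw [← sliceL_pr_of_mem L b hb χ ha]
  show _ = HopfAlgebraStruct.antipode (R := k)
    (TensorProduct.lid k A ((pr L b χ).rTensor A (CoalgebraStruct.comul (R := k) a))) ⊗ₜ[k] _
  induction CoalgebraStruct.comul (R := k) a with
  | zero => simp
  | add p q hp hq => simp only [map_add, TensorProduct.add_tmul, hp, hq]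
  | tmul p q =>
    simp only [LinearMap.rTensor_tmul, TensorProduct.comm_tmul, TensorProduct.map_tmul,
      Algebra.TensorProduct.map_tmul, AlgHom.id_apply, TensorProduct.lid_tmul, map_smul]
    rw [show Ideal.Quotient.mkₐ k L (HopfAlgebraStruct.antipode (R := k) (sliceL (pr L b χ) p)) =
      HopfAlgebraStruct.antipode (R := k) (Ideal.Quotient.mkₐ k L (sliceL (pr L b χ) p)) from
      HopfFF23.map_antipode (qm (k := k) L) _, mk_sliceL_pr L b hb, map_smul]
    rw [TensorProduct.tmul_smul, ← TensorProduct.smul_tmul']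
    rfl

include hb in
/-- The spaces of given weight are subcomodules when the kernel is central. -/
theorem isSubcomod_WL (χ : Char (k := k) L) : IsSubcomod (k := k) (A := A) (WL (k := k) L χ.1) := by
  intro a ha
  refine ⟨((sliceL (pr L b χ)).codRestrict (WL (k := k) L χ.1) fun z => sliceL_pr_mem L b hb χ z).rTensor A
    (CoalgebraStruct.comul (R := k) a), ?_⟩
  rw [← LinearMap.rTensor_comp_apply]
  exact (comul_eq_of_mem_WL L b hb χ ha).symm

section Matrix

variable {ι : Type u} [Fintype ι] [DecidableEq ι]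

theorem mul_antipode_eq_one {X : Matrix ι ι A} (hX : Chevalley.IsMul (k := k) X) :
    X * X.map (HopfAlgebraStruct.antipode (R := k)) = 1 ∧ X.map (HopfAlgebraStruct.antipode (R := k)) * X = 1 := by
  constructor
  · ext i j
    have h := HopfAlgebra.mul_antipode_lTensor_comul_apply (R := k) (X i j)
    rw [hX.comul, hX.counit] at h
    simp only [map_sum, LinearMap.lTensor_tmul, LinearMap.mul'_apply] at h
    rw [Matrix.mul_apply, Matrix.one_apply]
    simp only [Matrix.map_apply]
    rw [h]
    split_ifs <;> simp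
  · ext i j
    have h := HopfAlgebra.mul_antipode_rTensor_comul_apply (R := k) (X i j)
    rw [hX.comul, hX.counit] at h
    simp only [map_sum, LinearMap.rTensor_tmul, LinearMap.mul'_apply] at h
    rw [Matrix.mul_apply, Matrix.one_apply]
    simp only [Matrix.map_apply]
    rw [h]
    split_ifs <;> simp

/-- The conjugation corepresentation. -/
def conj' (X : Matrix ι ι A) : Matrix (ι × ι) (ι × ι) A :=
  Chevalley.kron X fun i j => HopfAlgebraStruct.antipode (R := k) (X j i)

theorem moved_conj (X : Matrix ι ι A) (u : ι × ι → k) (p : ι × ι) :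
    Chevalley.moved (conj' (k := k) X) u p =
      (X * Matrix.of (fun i j => algebraMap k A (u (i, j))) * X.map (HopfAlgebraStruct.antipode (R := k))) p.1 p.2 := by
  simp only [Chevalley.moved, conj', Chevalley.kron, Matrix.mul_apply, Finset.sum_mul, Fintype.sum_prod_type,
    Matrix.of_apply, Matrix.map_apply]
  rw [Finset.sum_comm]
  exact Finset.sum_congr rfl fun _ _ => Finset.sum_congr rfl fun _ _ => by ring

/-- An irreducible corepresentation of weight `χ` is one-dimensional. -/
theorem subsingleton_of_irreducible [IsAlgClosed k] [IsDomain C] (hC : HopfRep.IsUnipotent k C)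
    (hψ : Function.Injective ψ) {X : Matrix ι ι A} (hX : Chevalley.IsMul (k := k) X)
    {Γ : Matrix (ι × ι) (ι × ι) C} (hΓ : ∀ p q, ψ (Γ p q) = conj' (k := k) X p q)
    (hirr : ∀ f : Matrix ι ι k, X * f.map (algebraMap k A) = f.map (algebraMap k A) * X →
      ∃ r : k, f = r • (1 : Matrix ι ι k)) : Subsingleton ι := by
  by_contra hns
  rw [not_subsingleton_iff_nontrivial] at hns
  obtain ⟨i₀, j₀, hij⟩ := hns.exists_pair_ne
  obtain ⟨hXX', hX'X⟩ := mul_antipode_eq_one hX
  have hmul' : Chevalley.IsMul (k := k) (conj' (k := k) X) := hX.kron (isMul_dual hX)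
  have hΓmul : Chevalley.IsMul (k := k) Γ := by
    constructor
    · intro p q
      refine TensorProduct.map_injective_of_flat_flat (ψ : C →ₗ[k] A) (ψ : C →ₗ[k] A) hψ hψ ?_
      rw [map_sum]
      refine (CoalgHomClass.map_comp_comul_apply ψ (Γ p q)).trans ?_
      rw [hΓ, hmul'.comul]
      exact Finset.sum_congr rfl fun l _ => by
        rw [TensorProduct.map_tmul]
        show _ = ψ (Γ p l) ⊗ₜ[k] ψ (Γ l q)
        rw [hΓ, hΓ]
    · intro p q
      rw [← CoalgHomClass.counit_comp_apply ψ, hΓ, hmul'.counit]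
  letI cV : Comod k C (ι × ι → k) := Chevalley.matComod hΓmul
  have hmoved : ∀ (u : ι × ι → k) p, ψ (Chevalley.moved Γ u p) = Chevalley.moved (conj' (k := k) X) u p := by
    intro u p
    simp only [Chevalley.moved, map_sum, map_mul, hΓ, AlgHomClass.commutes]
  have hfix : ∀ u : ι × ι → k, u ∈ fixedPts k C (ι × ι → k) → ∀ i j, u (i, j) = if i = j then u (i₀, i₀) else 0 := by
    intro u hu
    have h1 : (LinearMap.id : C →ₗ[k] C).lTensor _ (Chevalley.matCoact Γ u) = u ⊗ₜ[k] (1 : C) := by
      rw [LinearMap.lTensor_id]; exact hu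
    rw [Chevalley.lTensor_eq_tmul_iff] at h1
    let f : Matrix ι ι k := Matrix.of fun i j => u (i, j)
    have h2 : X * f.map (algebraMap k A) * X.map (HopfAlgebraStruct.antipode (R := k)) = f.map (algebraMap k A) := by
      ext i j
      have h3 := congrArg ψ (h1 (i, j))
      rw [show Γ.map (LinearMap.id : C →ₗ[k] C) = Γ from Matrix.ext fun _ _ => rfl, mul_one, hmoved, moved_conj,
        AlgHomClass.commutes] at h3
      exact h3
    obtain ⟨r, hr⟩ := hirr f (by
      conv_rhs => rw [← h2]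
      rw [mul_assoc, hX'X, mul_one])
    have hu' : ∀ i j, u (i, j) = if i = j then r else 0 := fun i j => by
      have h4 := congrFun (congrFun hr i) j
      simp only [f, Matrix.of_apply, Matrix.smul_apply, Matrix.one_apply, smul_eq_mul, mul_ite, mul_one, mul_zero] at h4
      exact h4
    intro i j
    rw [hu' i j, hu' i₀ i₀, if_pos rfl]
  have hne : fixedPts k C (ι × ι → k) ≠ ⊤ := fun h => by
    have h5 := hfix (Pi.single (i₀, j₀) 1) (h ▸ Submodule.mem_top) i₀ j₀
    simp [hij] at h5
  haveI : Nontrivial ((ι × ι → k) ⧸ fixedPts k C (ι × ι → k)) := Submodule.Quotient.nontrivial_iff.2 hne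
  letI := UnipPt29.quotComod k C (ι × ι → k)
  obtain ⟨x, hx, hx0⟩ := Submodule.exists_mem_ne_zero_of_ne_bot
    (hC ((ι × ι → k) ⧸ fixedPts k C (ι × ι → k)) inferInstance inferInstance)
  obtain ⟨u, rfl⟩ := Submodule.mkQ_surjective _ x
  have hx' : (fixedPts k C (ι × ι → k)).mkQ.rTensor C (Chevalley.matCoact Γ u - u ⊗ₜ[k] (1 : C)) = 0 := by
    rw [map_sub, LinearMap.rTensor_tmul]
    exact sub_eq_zero.2 hx
  obtain ⟨z, hz⟩ := ((rTensor_exact C (LinearMap.exact_subtype_mkQ _) (Submodule.mkQ_surjective _)) _).1 hx'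
  let Ψ : (ι × ι → k) ⊗[k] C →ₗ[k] ι × ι → C :=
    (TensorProduct.piScalarRight k k C (ι × ι)).toLinearMap ∘ₗ (TensorProduct.comm k _ _).toLinearMap
  have hdiag : ∀ i j, Ψ (Chevalley.matCoact Γ u - u ⊗ₜ[k] (1 : C)) (i, j) =
      if i = j then Ψ (Chevalley.matCoact Γ u - u ⊗ₜ[k] (1 : C)) (i₀, i₀) else 0 := by
    intro i j
    rw [← hz]
    clear hz
    induction z with
    | zero => simp
    | add p q hp hq =>
      simp only [map_add, Pi.add_apply, hp, hq]
      split_ifs <;> simp
    | tmul w c =>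
      simp [Ψ, TensorProduct.piScalarRight_apply, TensorProduct.piScalarRightHom_tmul, hfix w.1 w.2 i j]
  have hΨ : ∀ p, Ψ (Chevalley.matCoact Γ u - u ⊗ₜ[k] (1 : C)) p =
      Chevalley.moved Γ u p - algebraMap k C (u p) := fun p => by
    rw [map_sub, Pi.sub_apply]
    congr 1
    · have h := congrFun (Chevalley.lTensor_matCoact Γ (LinearMap.id : C →ₗ[k] C) u) p
      rw [show Γ.map (LinearMap.id : C →ₗ[k] C) = Γ from Matrix.ext fun _ _ => rfl, LinearMap.lTensor_id] at h
      exact h
    · simp [Ψ, TensorProduct.piScalarRight_apply, TensorProduct.piScalarRightHom_tmul, Algebra.algebraMap_eq_smul_one]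
  set φ : C := Ψ (Chevalley.matCoact Γ u - u ⊗ₜ[k] (1 : C)) (i₀, i₀)
  let f : Matrix ι ι k := Matrix.of fun i j => u (i, j)
  set U : Matrix ι ι A := f.map (algebraMap k A)
  have hconj : X * U * X.map (HopfAlgebraStruct.antipode (R := k)) = U + Matrix.scalar ι (ψ φ) := by
    ext i j
    have h := congrArg ψ (hdiag i j)
    rw [hΨ, map_sub, hmoved, moved_conj, AlgHomClass.commutes] at h
    rw [Matrix.add_apply, Matrix.scalar_apply, Matrix.diagonal_apply, add_comm (U i j)]
    refine eq_add_of_sub_eq (h.trans ?_)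
    split_ifs <;> simp
  have hchar : U.charpoly = U.charpoly.comp (Polynomial.X + Polynomial.C (-ψ φ)) := by
    conv_lhs => rw [show U = X.map (HopfAlgebraStruct.antipode (R := k)) * (X * U) by rw [← mul_assoc, hX'X, one_mul]]
    rw [Matrix.charpoly_mul_comm, hconj, ← Matrix.charpoly_sub_scalar, map_neg, sub_neg_eq_add]
  obtain ⟨μ, hμ⟩ := IsAlgClosed.exists_root f.charpoly (fun h => by
    rw [Matrix.charpoly_degree_eq_dim] at h
    simp at h)
  have hroot : Polynomial.aeval (algebraMap k C μ - φ) f.charpoly = 0 := by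
    refine hψ ?_
    rw [map_zero]
    show (ψ : C →ₐ[k] A) _ = 0
    rw [← Polynomial.aeval_algHom_apply, map_sub, AlgHom.commutes]
    have hU : U.charpoly = f.charpoly.map (algebraMap k A) := Matrix.charpoly_map f (algebraMap k A)
    have h := congrArg (Polynomial.eval (algebraMap k A μ)) hchar
    rw [Polynomial.eval_comp, Polynomial.eval_add, Polynomial.eval_X, Polynomial.eval_C, hU,
      Polynomial.eval_map, Polynomial.eval₂_at_apply, hμ.eq_zero, map_zero, ← sub_eq_add_neg] at h
    rw [Polynomial.aeval_def, ← Polynomial.eval_map]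
    exact h.symm
  obtain ⟨r, hr⟩ := UnitsRos.exists_const (k := k) (x := algebraMap k C μ - φ)
    ⟨f.charpoly, f.charpoly_monic.ne_zero, hroot⟩
  have hφε : CoalgebraStruct.counit (R := k) φ = 0 := by
    show CoalgebraStruct.counit (R := k) (Ψ (Chevalley.matCoact Γ u - u ⊗ₜ[k] (1 : C)) (i₀, i₀)) = 0
    rw [hΨ]
    simp [Chevalley.moved, hΓmul.counit]
  have hφ0 : φ = 0 := by
    have h := congrArg (CoalgebraStruct.counit (R := k)) hr
    rw [map_sub, hφε, sub_zero, Bialgebra.counit_algebraMap, Bialgebra.counit_algebraMap] at h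
    have h' := hr
    rw [h, eq_comm, sub_eq_self] at h'
    exact h'
  refine hx0 ((Submodule.Quotient.mk_eq_zero _).2 ?_)
  show Chevalley.matCoact Γ u = u ⊗ₜ[k] (1 : C)
  have e : (LinearMap.id : C →ₗ[k] C).lTensor _ (Chevalley.matCoact Γ u) = u ⊗ₜ[k] (1 : C) := by
    rw [Chevalley.lTensor_eq_tmul_iff, show Γ.map (LinearMap.id : C →ₗ[k] C) = Γ from Matrix.ext fun _ _ => rfl]
    intro p
    have h := hdiag p.1 p.2
    rw [hΨ, hφ0, ite_self, sub_eq_zero] at h
    rw [mul_one]
    exact h
  rwa [LinearMap.lTensor_id] at e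

end Matrix

variable [IsAlgClosed k] [IsDomain C] (hC : HopfRep.IsUnipotent k C) (hψ : Function.Injective ψ)

include hL hb hψ in
omit [IsAlgClosed k] in
theorem mem_WR_of_mem_WL (χ : Char (k := k) L) {x : A} (hx : x ∈ WL (k := k) L χ.1) :
    x ∈ WR (k := k) L χ.1 := by
  have h : (⨆ ξ : Char (k := k) L, WR (k := k) L ξ.1) ≤ (WR (k := k) L χ.1).comap (sliceL (pr L b χ)) := by
    refine iSup_le fun ξ z hz => ?_
    show sliceL (pr L b χ) z ∈ WR (k := k) L χ.1
    have hzL := mem_WL_of_mem_WR ψ L hL b hb hψ ξ hz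
    rcases eq_or_ne χ ξ with rfl | hne
    · rwa [sliceL_pr_of_mem L b hb χ hzL]
    · have : sliceL (pr L b χ) z = 0 := by
        rw [← equivL_coL, mem_WL.1 hzL, TensorProduct.equivFinsuppOfBasisLeft_apply_tmul_apply, ← hb ξ,
          b.repr_self, Finsupp.single_eq_of_ne hne, zero_smul]
      rw [this]
      exact zero_mem _
  rw [← sliceL_pr_of_mem L b hb χ hx]
  exact h (span_WR L b hb ▸ Submodule.mem_top)

include hL hb hC hψ in
/-- Characters of the kernel lift. -/
theorem exists_lift (χ : Char (k := k) L) :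
    ∃ g : A, IsGroupLikeElem k g ∧ Ideal.Quotient.mkₐ k L g = χ.1 ∧ g ∈ WR (k := k) L χ.1 := by
  obtain ⟨y, -, hyL, hy1⟩ := exists_bihom L b hb χ
  obtain ⟨N, hN, hNfin, hyN⟩ := Comodule.exists_finite_subcomod (k := k) (A := A) (V := A) y
  have hex : ∃ n, ∃ V : Submodule k A, IsSubcomod (k := k) (A := A) V ∧ V ≤ WL (k := k) L χ.1 ∧ V ≠ ⊥ ∧
      Module.Finite k V ∧ Module.finrank k V = n := by
    refine ⟨_, N ⊓ WL (k := k) L χ.1, Comodule.isSubcomod_inf hN (isSubcomod_WL L b hb χ), inf_le_right,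
      fun h => ?_, Submodule.finiteDimensional_inf_left _ _, rfl⟩
    have h1 : y ∈ (⊥ : Submodule k A) := h ▸ ⟨hyN, hyL⟩
    rw [(Submodule.mem_bot k).1 h1, map_zero] at hy1
    exact zero_ne_one hy1
  obtain ⟨V, hV, hVW, hV0, hVfin, hVn⟩ := Nat.find_spec hex
  letI := Comodule.subComod V hV
  let e := Module.finBasis k V
  let ι := Fin (Module.finrank k V)
  let X₀ : Matrix ι ι A := Chevalley.matrixOf (A := A) e
  have hexp : ∀ j, CoalgebraStruct.comul (R := k) (e j : A) = ∑ i, (e i : A) ⊗ₜ[k] X₀ i j := fun j => by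
    have h := Comodule.rTensor_coactRestrict V hV (e j)
    refine Eq.trans h.symm ?_
    rw [show Comodule.coactRestrict V hV (e j) = Comod.coact (k := k) (A := A) (e j) from rfl,
      Chevalley.coact_basis, map_sum]
    rfl
  have hXW : ∀ i j, X₀ i j ∈ WR (k := k) L χ.1 := by
    intro i j
    obtain ⟨φ, hφ⟩ := LinearMap.exists_extend (e.coord i)
    have h : sliceL φ (e j : A) = X₀ i j := by
      show TensorProduct.lid k A (φ.rTensor A (CoalgebraStruct.comul (R := k) (e j : A))) = _
      rw [hexp, map_sum, map_sum]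
      have hφe : ∀ l, φ (e l : A) = if l = i then 1 else 0 := fun l => by
        rw [show φ (e l : A) = e.coord i (e l) from LinearMap.congr_fun hφ (e l)]
        simp [Finsupp.single_apply]
      simp [hφe]
    rw [← h]
    exact sliceL_mem_WR L b hb χ (mem_WR_of_mem_WL ψ L hL b hb hψ χ (hVW (e j).2)) φ
  let v : ULift.{u} ι ≃ ι := Equiv.ulift
  let e' := e.reindex v.symm
  let X : Matrix (ULift.{u} ι) (ULift.{u} ι) A := Chevalley.matrixOf (A := A) e'
  have hXeq : ∀ i j, X i j = X₀ i.down j.down := fun i j => by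
    simp only [X, X₀, Chevalley.matrixOf, e', Module.Basis.reindex_apply, Module.Basis.coord_apply]
    congr 2
  have hX : Chevalley.IsMul (k := k) X := Chevalley.isMul_matrixOf e'
  have hΓex : ∀ p q, ∃ c, ψ c = conj' (k := k) X p q := fun p q => by
    refine exists_preimage ψ L hL ?_
    have h : X p.1 q.1 * HopfAlgebraStruct.antipode (R := k) (X q.2 p.2) ∈
        WR (k := k) L (χ.1 * (inv' L χ).1) := by
      rw [hXeq, hXeq]
      exact mul_mem_WR (hXW _ _) (antipode_mem_WR L b hb χ (mem_WL_of_mem_WR ψ L hL b hb hψ χ (hXW _ _)))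
    rwa [show χ.1 * (inv' L χ).1 = 1 from (mul_comm _ _).trans (mul_eq_one_char L χ)] at h
  choose Γ hΓ using hΓex
  have hirr : ∀ f : Matrix (ULift.{u} ι) (ULift.{u} ι) k,
      X * f.map (algebraMap k A) = f.map (algebraMap k A) * X → ∃ r : k, f = r • 1 := by
    intro f hf
    haveI : Nontrivial V := Submodule.nontrivial_iff_ne_bot.2 hV0
    let T : V →ₗ[k] V := Matrix.toLin e' e' f
    obtain ⟨r, hr⟩ := Module.End.exists_eigenvalue T
    refine ⟨r, ?_⟩
    have hM : ∀ (φ : A →ₗ[k] k), (X.map φ) * f = f * (X.map φ) := fun φ => by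
      ext i j
      have h := congrArg φ (congrFun (congrFun hf i) j)
      simp only [Matrix.mul_apply, Matrix.map_apply, map_sum] at h ⊢
      refine Eq.trans (Finset.sum_congr rfl fun l _ => ?_) (h.trans (Finset.sum_congr rfl fun l _ => ?_))
      · rw [mul_comm (X i l), ← Algebra.smul_def, map_smul, smul_eq_mul, mul_comm]
      · rw [← Algebra.smul_def, map_smul, smul_eq_mul]
    have hstab : ∀ (φ : WithConv (A →ₗ[k] k)) (x : V), T (φ • x) = φ • T x := by
      intro φ x
      have hact : ∀ z : V, φ • z = Matrix.toLin e' e' (X.map φ.ofConv) z := fun z => by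
        refine LinearMap.congr_fun (e'.ext (f₁ := (actL φ.ofConv : V →ₗ[k] V)) fun j => ?_) z
        show slice φ.ofConv (Comod.coact (k := k) (A := A) (e' j)) = _
        rw [Chevalley.coact_basis, map_sum, Matrix.toLin_self]
        simp [slice_tmul, X]
      rw [hact, hact, ← Matrix.toLin_mul_apply, ← Matrix.toLin_mul_apply, hM]
    let W : Submodule k A := (Module.End.eigenspace T r).map V.subtype
    have hW : IsSubcomod (k := k) (A := A) W := by
      refine isSubcomod_iff.2 fun φ a ha => ?_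
      obtain ⟨x, hx, rfl⟩ := ha
      refine ⟨φ • x, ?_, ?_⟩
      · rw [SetLike.mem_coe, Module.End.mem_eigenspace_iff] at hx ⊢
        rw [hstab, hx, smul_comm]
      · show V.subtype (slice φ.ofConv (Comodule.coactRestrict V hV x)) = _
        rw [← slice_rTensor, Comodule.rTensor_coactRestrict]
        rfl
    have hW0 : W ≠ ⊥ := fun h => hr ((Submodule.map_injective_of_injective (Submodule.injective_subtype V)) (h.trans (Submodule.map_bot _).symm))
    have hWV : W ≤ V := Submodule.map_subtype_le V _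
    haveI : Module.Finite k W := Submodule.finiteDimensional_of_le hWV
    have hWeq : W = V := by
      refine Submodule.eq_of_le_of_finrank_le hWV ?_
      rw [hVn]
      exact Nat.find_le ⟨W, hW, hWV.trans hVW, hW0, inferInstance, rfl⟩
    refine (Matrix.toLin e' e').injective (LinearMap.ext fun x => ?_)
    have hx : (x : A) ∈ W := hWeq.symm ▸ x.2
    obtain ⟨x', hx', he⟩ := hx
    obtain rfl : x' = x := Subtype.ext he
    rw [SetLike.mem_coe, Module.End.mem_eigenspace_iff] at hx'
    rw [map_smul, Matrix.toLin_one, LinearMap.smul_apply, LinearMap.id_apply]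
    exact hx'
  haveI := subsingleton_of_irreducible ψ hC hψ hX hΓ hirr
  haveI : Nontrivial V := Submodule.nontrivial_iff_ne_bot.2 hV0
  let i₀ : ULift.{u} ι := ⟨⟨0, Module.finrank_pos⟩⟩
  have huniv : ∀ l : ULift.{u} ι, l = i₀ := fun l => Subsingleton.elim _ _
  have hg : IsGroupLikeElem k (X i₀ i₀) := by
    refine ⟨by rw [hX.counit, if_pos rfl], ?_⟩
    rw [hX.comul, Finset.sum_eq_single i₀ (fun l _ hl => absurd (huniv l) hl) (by simp)]
  have hgW : X i₀ i₀ ∈ WR (k := k) L χ.1 := hXeq i₀ i₀ ▸ hXW _ _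
  refine ⟨X i₀ i₀, hg, ?_, hgW⟩
  rw [mk_eq_of_mem_WR L b hb χ hgW, hg.counit_eq_one, one_smul]

end Groth.Agent.RetrDesc20
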