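import Groth.Agent.Lib.RetrDesc20.Lift

/-!
# The retraction on a connected unipotent quotient over an algebraically closed field
-/

set_option autoImplicit false
set_option linter.style.haveILetI false
set_option linter.unusedSectionVars false
set_option maxHeartbeats 1000000
universe u

open TensorProduct WithConv HopfRep
open scoped Classical

noncomputable section

namespace Groth.Agent.RetrDesc20

variable {k : Type u} [Field k] [IsAlgClosed k] {A C : Type u} [CommRing A] [HopfAlgebra k A] [CommRing C]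
  [HopfAlgebra k C] [Algebra.FiniteType k A] [Algebra.FiniteType k C] [IsDomain C]

/-- The retraction over an algebraically closed field, unique among counit-preserving algebra maps. -/
theorem exists_split (hC : HopfRep.IsUnipotent k C) (ψ : C →ₐc[k] A) (hψ : Function.Injective ψ)
    (L : Ideal A) [Ideal.IsHopfIdeal k L]
    (hL : L = Ideal.map (ψ : C →+* A) (RingHom.ker (Bialgebra.counitAlgHom k C)))
    (hQ : IsDiagonalizable k (A ⧸ L)) :
    ∃ r : A →ₐc[k] C, r.comp ψ = BialgHom.id k C ∧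
      ∀ ρ : A →ₐ[k] C, (∀ c, ρ (ψ c) = c) →
        (∀ a, CoalgebraStruct.counit (R := k) (ρ a) = CoalgebraStruct.counit (R := k) a) → ∀ a, ρ a = r a := by
  obtain ⟨b, hb⟩ := exists_charBasis L hQ
  choose g hg hgq hgW using exists_lift ψ L hL b hb hψ hC
  have huniq : ∀ (χ : Char (k := k) L) (g' : A), IsGroupLikeElem k g' → g' ∈ WR (k := k) L χ.1 → g' = g χ := by
    intro χ g' hg' hW'
    have hWL := mem_WL_of_mem_WR ψ L hL b hb hψ χ (hgW χ)
    have h1 : g' * HopfAlgebraStruct.antipode (R := k) (g χ) ∈ WR (k := k) L 1 := by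
      have h := mul_mem_WR hW' (antipode_mem_WR L b hb χ hWL)
      rwa [show χ.1 * (inv' L χ).1 = 1 from (mul_comm _ _).trans (mul_eq_one_char L χ)] at h
    obtain ⟨c, hc⟩ := exists_preimage ψ L hL h1
    have hgl : IsGroupLikeElem k c := by
      have hg2 : IsGroupLikeElem k (ψ c) := hc ▸ hg'.mul (hg χ).antipode
      refine ⟨by rw [← CoalgHomClass.counit_comp_apply ψ]; exact hg2.counit_eq_one, ?_⟩
      refine TensorProduct.map_injective_of_flat_flat (ψ : C →ₗ[k] A) (ψ : C →ₗ[k] A) hψ hψ ?_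
      refine (CoalgHomClass.map_comp_comul_apply ψ c).trans ?_
      rw [hg2.comul_eq_tmul_self, TensorProduct.map_tmul]
      rfl
    rw [UnipConst20.eq_one_of_isGroupLikeElem k hC hgl, map_one] at hc
    have h2 := congrArg (· * g χ) hc
    simp only [one_mul, mul_assoc, (hg χ).antipode_mul_cancel, mul_one] at h2
    exact h2.symm
  let one' : Char (k := k) L := ⟨1, IsGroupLikeElem.one⟩
  let mul' : Char (k := k) L → Char (k := k) L → Char (k := k) L := fun χ ξ => ⟨χ.1 * ξ.1, χ.2.mul ξ.2⟩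
  let s₀ : A ⧸ L →ₗ[k] A := b.constr k g
  have hs₀ : ∀ χ : Char (k := k) L, s₀ χ.1 = g χ := fun χ => by
    rw [← hb χ]; exact b.constr_basis k g χ
  have hs1 : s₀ 1 = 1 := (hs₀ one').trans (huniq one' 1 IsGroupLikeElem.one one_mem_WR).symm
  have hsm : ∀ χ ξ : Char (k := k) L, s₀ (χ.1 * ξ.1) = s₀ χ.1 * s₀ ξ.1 := fun χ ξ => by
    rw [hs₀, hs₀]
    exact (hs₀ (mul' χ ξ)).trans
      (huniq (mul' χ ξ) _ ((hg χ).mul (hg ξ)) (mul_mem_WR (hgW χ) (hgW ξ))).symm
  have hsmul : ∀ x y, s₀ (x * y) = s₀ x * s₀ y := by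
    have h : (LinearMap.mul k (A ⧸ L)).compr₂ s₀ = (LinearMap.mul k A).compl₁₂ s₀ s₀ :=
      b.ext fun χ => b.ext fun ξ => by
        simp only [LinearMap.compr₂_apply, LinearMap.compl₁₂_apply, LinearMap.mul_apply']
        rw [hb, hb]
        exact hsm χ ξ
    exact fun x y => LinearMap.congr_fun₂ h x y
  let sA : A ⧸ L →ₐ[k] A := AlgHom.ofLinearMap s₀ hs1 hsmul
  let s : A ⧸ L →ₐ[k] A := sA.comp (HopfAlgebra.antipodeAlgHom k (A ⧸ L))
  let R : A →ₐ[k] A := (toConv (AlgHom.id k A) * toConv (s.comp (Ideal.Quotient.mkₐ k L))).ofConv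
  have hinvg : ∀ χ : Char (k := k) L, s χ.1 * g χ = 1 := fun χ => by
    show s₀ (inv' L χ).1 * g χ = 1
    rw [← hs₀ χ, ← hsm, show (inv' L χ).1 * χ.1 = 1 from mul_eq_one_char L χ, hs1]
  have hR : ∀ (χ : Char (k := k) L), ∀ a ∈ WR (k := k) L χ.1, R a = a * s χ.1 := by
    intro χ a ha
    show (toConv (AlgHom.id k A) * toConv (s.comp (Ideal.Quotient.mkₐ k L))).ofConv a = _
    rw [AlgHom.convMul_def]
    simp only [ofConv_toConv, AlgHom.comp_apply, Bialgebra.comulAlgHom_apply]
    have e : ∀ z : A ⊗[k] A, Algebra.TensorProduct.lmul' k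
        (Algebra.TensorProduct.map (AlgHom.id k A) (s.comp (Ideal.Quotient.mkₐ k L)) z) =
        Algebra.TensorProduct.lmul' k (Algebra.TensorProduct.map (AlgHom.id k A) s
          (Algebra.TensorProduct.map (AlgHom.id k A) (Ideal.Quotient.mkₐ k L) z)) := by
      intro z
      induction z with
      | zero => simp
      | add p q hp hq => simp only [map_add, hp, hq]
      | tmul p q => simp
    refine (e _).trans ?_
    rw [show Algebra.TensorProduct.map (AlgHom.id k A) (Ideal.Quotient.mkₐ k L)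
      (CoalgebraStruct.comul (R := k) a) = a ⊗ₜ[k] χ.1 from mem_WR.1 ha]
    simp
  have hRg : ∀ χ, R (g χ) = 1 := fun χ => by rw [hR χ _ (hgW χ), mul_comm, hinvg]
  have hRψ : ∀ c, R (ψ c) = ψ c := fun c => by
    rw [hR one' _ (map_mem_WR ψ L hL c)]
    show ψ c * s₀ (HopfAlgebraStruct.antipode (R := k) (1 : A ⧸ L)) = ψ c
    rw [HopfAlgebra.antipode_one, hs1, mul_one]
  have htop := span_WR L b hb
  have hrange : ∀ a, R a ∈ (ψ : C →ₐ[k] A).range := by
    intro a
    have h : (⨆ χ : Char (k := k) L, WR (k := k) L χ.1) ≤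
        ((ψ : C →ₐ[k] A).range.toSubmodule).comap R.toLinearMap := by
      refine iSup_le fun χ a ha => ?_
      show R a ∈ (ψ : C →ₐ[k] A).range
      rw [hR χ a ha]
      obtain ⟨c, hc⟩ := exists_preimage ψ L hL (a := a * s χ.1) (by
        have hs : s χ.1 ∈ WR (k := k) L (inv' L χ).1 := by
          show s₀ (inv' L χ).1 ∈ _
          rw [hs₀]; exact hgW _
        have h := mul_mem_WR ha hs
        rwa [show χ.1 * (inv' L χ).1 = 1 from (mul_comm _ _).trans (mul_eq_one_char L χ)] at h)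
      exact ⟨c, hc⟩
    exact h (htop ▸ Submodule.mem_top)
  let r₀ : A →ₐ[k] C := (AlgEquiv.ofInjective (ψ : C →ₐ[k] A) hψ).symm.toAlgHom.comp (R.codRestrict _ hrange)
  have hr₀ : ∀ a, ψ (r₀ a) = R a := fun a =>
    congrArg Subtype.val ((AlgEquiv.ofInjective (ψ : C →ₐ[k] A) hψ).apply_symm_apply _)
  have hr₀ψ : ∀ c, r₀ (ψ c) = c := fun c => hψ (by rw [hr₀, hRψ])
  have hεs : ∀ χ : Char (k := k) L, CoalgebraStruct.counit (R := k) (s χ.1) = 1 := fun χ => by
    show CoalgebraStruct.counit (R := k) (s₀ (inv' L χ).1) = 1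
    rw [hs₀]; exact (hg _).counit_eq_one
  have hεr : ∀ a, CoalgebraStruct.counit (R := k) (r₀ a) = CoalgebraStruct.counit (R := k) a := by
    intro a
    have h : (⨆ χ : Char (k := k) L, WR (k := k) L χ.1) ≤ LinearMap.ker
        ((CoalgebraStruct.counit (R := k) (A := A)) ∘ₗ R.toLinearMap - CoalgebraStruct.counit) := by
      refine iSup_le fun χ a ha => ?_
      rw [LinearMap.mem_ker, LinearMap.sub_apply, LinearMap.comp_apply, AlgHom.toLinearMap_apply, hR χ a ha,
        Bialgebra.counit_mul, hεs, mul_one, sub_self]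
    rw [← CoalgHomClass.counit_comp_apply ψ, hr₀]
    exact sub_eq_zero.1 (h (htop ▸ Submodule.mem_top) :)
  have hΔr : ∀ a, CoalgebraStruct.comul (R := k) (R a) =
      Algebra.TensorProduct.map R R (CoalgebraStruct.comul (R := k) a) := by
    intro a
    have h : (⨆ χ : Char (k := k) L, WR (k := k) L χ.1) ≤ LinearMap.ker
        ((CoalgebraStruct.comul (R := k) (A := A)) ∘ₗ R.toLinearMap -
          (Algebra.TensorProduct.map R R).toLinearMap ∘ₗ CoalgebraStruct.comul) := by
      refine iSup_le fun χ a ha => ?_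
      rw [LinearMap.mem_ker, LinearMap.sub_apply, LinearMap.comp_apply, LinearMap.comp_apply,
        AlgHom.toLinearMap_apply, AlgHom.toLinearMap_apply, sub_eq_zero, hR χ a ha, Bialgebra.comul_mul]
      have hs : IsGroupLikeElem k (s χ.1) := by
        show IsGroupLikeElem k (s₀ (inv' L χ).1)
        rw [hs₀]; exact hg _
      rw [hs.comul_eq_tmul_self]
      have hL' := mem_WL_of_mem_WR ψ L hL b hb hψ χ ha
      have e2 : CoalgebraStruct.comul (R := k) a =
          TensorProduct.map (sliceL (pr L b χ)) (sliceR (pr L b χ)) (CoalgebraStruct.comul (R := k) a) := by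
        conv_lhs => rw [comul_eq_of_mem_WL L b hb χ hL', comul_eq_of_mem_WR L b hb χ ha]
        rw [← LinearMap.comp_apply, LinearMap.rTensor_comp_lTensor]
      rw [e2]
      induction CoalgebraStruct.comul (R := k) a with
      | zero => simp
      | add p q hp hq => simp only [map_add, add_mul, hp, hq]
      | tmul p q =>
        rw [TensorProduct.map_tmul, Algebra.TensorProduct.tmul_mul_tmul, Algebra.TensorProduct.map_tmul,
          hR χ _ (mem_WR_of_mem_WL ψ L hL b hb hψ χ (sliceL_pr_mem L b hb χ p)),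
          hR χ _ (sliceR_pr_mem L b hb χ q)]
    exact sub_eq_zero.1 (h (htop ▸ Submodule.mem_top) :)
  refine ⟨BialgHom.ofAlgHom r₀ (AlgHom.ext hεr) (AlgHom.ext fun a => ?_), BialgHom.ext hr₀ψ, fun ρ hρ hερ a => ?_⟩
  · refine TensorProduct.map_injective_of_flat_flat (ψ : C →ₗ[k] A) (ψ : C →ₗ[k] A) hψ hψ ?_
    show TensorProduct.map (ψ : C →ₗ[k] A) (ψ : C →ₗ[k] A)
        (Algebra.TensorProduct.map r₀ r₀ (CoalgebraStruct.comul (R := k) a)) =
      TensorProduct.map (ψ : C →ₗ[k] A) (ψ : C →ₗ[k] A) (CoalgebraStruct.comul (R := k) (r₀ a))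
    refine Eq.trans ?_ (CoalgHomClass.map_comp_comul_apply ψ (r₀ a)).symm
    rw [hr₀, hΔr]
    induction CoalgebraStruct.comul (R := k) a with
    | zero => simp
    | add p q hp hq => simp only [map_add, hp, hq]
    | tmul p q =>
      rw [Algebra.TensorProduct.map_tmul, Algebra.TensorProduct.map_tmul, TensorProduct.map_tmul]
      show ψ (r₀ p) ⊗ₜ[k] ψ (r₀ q) = _
      rw [hr₀, hr₀]
  · have hρg : ∀ χ, ρ (g χ) = 1 := fun χ => by
      refine UnipConst20.eq_one_of_isGroupLikeElem k hC (UnipConst20.isGroupLikeElem_of_isUnit k ?_ ?_)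
      · exact ((IsUnit.of_mul_eq_one_right _ (hinvg χ)) : IsUnit (g χ)).map ρ
      · exact (hερ _).trans (hg χ).counit_eq_one
    have h : (⨆ χ : Char (k := k) L, WR (k := k) L χ.1) ≤ LinearMap.ker (ρ.toLinearMap - r₀.toLinearMap) := by
      refine iSup_le fun χ a ha => ?_
      rw [LinearMap.mem_ker, LinearMap.sub_apply, AlgHom.toLinearMap_apply, AlgHom.toLinearMap_apply, sub_eq_zero]
      have h1 : a = ψ (r₀ a) * g χ := by
        rw [hr₀, hR χ a ha, mul_assoc, hinvg, mul_one]
      conv_lhs => rw [h1, map_mul, hρ, hρg, mul_one]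
    exact sub_eq_zero.1 (h (htop ▸ Submodule.mem_top) :)

end Groth.Agent.RetrDesc20
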