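import Groth.Agent.Lib.HopfFF23.Range
import Groth.Agent.Lib.Unip23.Coinv
import Groth.Agent.Lib.Comodule.Basic
import Groth.Agent.Lib.UnipPt29.Basic
import Groth.Agent.Lib.UnitsRos.Affine
import Groth.Agent.Lib.CoalgH23.Dual
import Groth.Agent.Lib.UnipConst20.Basic
import Mathlib.RingTheory.HopfAlgebra.Quotient
import Mathlib.LinearAlgebra.Matrix.Charpoly.Coeff
import Mathlib.LinearAlgebra.Eigenspace.Triangularizable
import Mathlib.RingTheory.Coalgebra.GroupLike

/-!
# Weights of the kernel of a homomorphism to a unipotent group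

Characters of a diagonalizable kernel of a map to a connected unipotent group lift to characters.
-/

set_option autoImplicit false
set_option linter.style.haveILetI false
set_option linter.unusedSectionVars false
set_option maxHeartbeats 1000000
universe u

open TensorProduct WithConv HopfRep Polynomial

noncomputable section

namespace Groth.Agent.RetrDesc20

variable {k : Type u} [Field k] {A C : Type u} [CommRing A] [HopfAlgebra k A] [CommRing C] [HopfAlgebra k C]

section Slices

variable (f : A →ₗ[k] k)

/-- Contract the right factor of the comultiplication. -/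
def sliceR : A →ₗ[k] A :=
  ((TensorProduct.rid k A).toLinearMap ∘ₗ f.lTensor A) ∘ₗ CoalgebraStruct.comul

/-- Contract the left factor of the comultiplication. -/
def sliceL : A →ₗ[k] A :=
  ((TensorProduct.lid k A).toLinearMap ∘ₗ f.rTensor A) ∘ₗ CoalgebraStruct.comul

theorem comul_sliceR (a : A) :
    CoalgebraStruct.comul (R := k) (sliceR f a) = (sliceR f).lTensor A (CoalgebraStruct.comul (R := k) a) := by
  have h1 : ∀ w : A ⊗[k] A, CoalgebraStruct.comul (R := k) (TensorProduct.rid k A (f.lTensor A w)) =
      ((TensorProduct.rid k A).toLinearMap ∘ₗ f.lTensor A).lTensor A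
        (TensorProduct.assoc k A A A ((CoalgebraStruct.comul (R := k)).rTensor A w)) := by
    intro w
    induction w with
    | zero => simp
    | add p q hp hq => simp only [map_add, hp, hq]
    | tmul p q =>
      rw [LinearMap.lTensor_tmul, TensorProduct.rid_tmul, map_smul, LinearMap.rTensor_tmul]
      induction CoalgebraStruct.comul (R := k) p with
      | zero => simp
      | add x y hx hy => simp only [map_add, smul_add, TensorProduct.add_tmul, hx, hy]
      | tmul x y => simp [TensorProduct.tmul_smul]
  show CoalgebraStruct.comul (R := k) (TensorProduct.rid k A (f.lTensor A (CoalgebraStruct.comul (R := k) a))) = _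
  rw [h1, Coalgebra.coassoc_apply, ← LinearMap.comp_apply, ← LinearMap.lTensor_comp]
  rfl

theorem comul_sliceL (a : A) :
    CoalgebraStruct.comul (R := k) (sliceL f a) = (sliceL f).rTensor A (CoalgebraStruct.comul (R := k) a) := by
  have h1 : ∀ w : A ⊗[k] A, CoalgebraStruct.comul (R := k) (TensorProduct.lid k A (f.rTensor A w)) =
      ((TensorProduct.lid k A).toLinearMap ∘ₗ f.rTensor A).rTensor A
        ((TensorProduct.assoc k A A A).symm ((CoalgebraStruct.comul (R := k)).lTensor A w)) := by
    intro w
    induction w with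
    | zero => simp
    | add p q hp hq => simp only [map_add, hp, hq]
    | tmul p q =>
      rw [LinearMap.rTensor_tmul, TensorProduct.lid_tmul, map_smul, LinearMap.lTensor_tmul]
      induction CoalgebraStruct.comul (R := k) q with
      | zero => simp
      | add x y hx hy => simp only [map_add, smul_add, TensorProduct.tmul_add, hx, hy]
      | tmul x y => simp [TensorProduct.smul_tmul']
  show CoalgebraStruct.comul (R := k) (TensorProduct.lid k A (f.rTensor A (CoalgebraStruct.comul (R := k) a))) = _
  rw [h1, Coalgebra.coassoc_symm_apply, ← LinearMap.comp_apply, ← LinearMap.rTensor_comp]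
  rfl

end Slices

open scoped Classical

variable (L : Ideal A) [Ideal.IsHopfIdeal k L]

/-- The quotient map. -/
def qm : A →ₐc[k] A ⧸ L := Bialgebra.Quotient.mkBialgHom (R := k) L

/-- The right coaction of the kernel. -/
def coR : A →ₐ[k] A ⊗[k] (A ⧸ L) :=
  (Algebra.TensorProduct.map (AlgHom.id k A) (Ideal.Quotient.mkₐ k L)).comp (Bialgebra.comulAlgHom k A)

/-- The left coaction of the kernel. -/
def coL : A →ₐ[k] (A ⧸ L) ⊗[k] A :=
  (Algebra.TensorProduct.map (Ideal.Quotient.mkₐ k L) (AlgHom.id k A)).comp (Bialgebra.comulAlgHom k A)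

/-- Elements of given right weight. -/
def WR (χ : A ⧸ L) : Submodule k A :=
  LinearMap.ker ((coR (k := k) L).toLinearMap - (TensorProduct.mk k A (A ⧸ L)).flip χ)

/-- Elements of given left weight. -/
def WL (χ : A ⧸ L) : Submodule k A :=
  LinearMap.ker ((coL (k := k) L).toLinearMap - TensorProduct.mk k (A ⧸ L) A χ)

variable {L}

theorem mem_WR {χ : A ⧸ L} {a : A} : a ∈ WR (k := k) L χ ↔ coR (k := k) L a = a ⊗ₜ[k] χ := by
  simp [WR, sub_eq_zero]

theorem mem_WL {χ : A ⧸ L} {a : A} : a ∈ WL (k := k) L χ ↔ coL (k := k) L a = χ ⊗ₜ[k] a := by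
  simp [WL, sub_eq_zero]

theorem one_mem_WR : (1 : A) ∈ WR (k := k) L 1 := by
  rw [mem_WR, map_one]; rfl

theorem mul_mem_WR {χ ξ : A ⧸ L} {a b : A} (ha : a ∈ WR (k := k) L χ) (hb : b ∈ WR (k := k) L ξ) :
    a * b ∈ WR (k := k) L (χ * ξ) := by
  rw [mem_WR] at ha hb ⊢
  rw [map_mul, ha, hb, Algebra.TensorProduct.tmul_mul_tmul]

theorem mul_mem_WL {χ ξ : A ⧸ L} {a b : A} (ha : a ∈ WL (k := k) L χ) (hb : b ∈ WL (k := k) L ξ) :
    a * b ∈ WL (k := k) L (χ * ξ) := by
  rw [mem_WL] at ha hb ⊢
  rw [map_mul, ha, hb, Algebra.TensorProduct.tmul_mul_tmul]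

variable (L)

theorem map_qm_comul (a : A) :
    TensorProduct.map (Ideal.Quotient.mkₐ k L).toLinearMap (Ideal.Quotient.mkₐ k L).toLinearMap
      (CoalgebraStruct.comul (R := k) a) = CoalgebraStruct.comul (R := k) (qm (k := k) L a) :=
  CoalgHomClass.map_comp_comul_apply (qm (k := k) L) a

theorem counit_qm (a : A) : CoalgebraStruct.counit (R := k) (Ideal.Quotient.mkₐ k L a) =
    CoalgebraStruct.counit (R := k) a :=
  CoalgHomClass.counit_comp_apply (qm (k := k) L) a

/-- The group-like elements of the kernel. -/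
abbrev Char : Type u := {x : A ⧸ L // IsGroupLikeElem k x}

variable (b : Module.Basis (Char (k := k) L) k (A ⧸ L))

/-- The functional picking out a character. -/
def pr (χ : Char (k := k) L) : A →ₗ[k] k := b.coord χ ∘ₗ (Ideal.Quotient.mkₐ k L).toLinearMap

theorem equivR_coR (a : A) (χ : Char (k := k) L) :
    TensorProduct.equivFinsuppOfBasisRight (M := A) b (coR (k := k) L a) χ = sliceR (pr L b χ) a := by
  show TensorProduct.equivFinsuppOfBasisRight (M := A) b
      (Algebra.TensorProduct.map (AlgHom.id k A) (Ideal.Quotient.mkₐ k L) (CoalgebraStruct.comul (R := k) a)) χ =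
    TensorProduct.rid k A ((pr L b χ).lTensor A (CoalgebraStruct.comul (R := k) a))
  induction CoalgebraStruct.comul (R := k) a with
  | zero => simp
  | add p q hp hq => simp only [map_add, Finsupp.add_apply, hp, hq]
  | tmul p q => simp [pr]

theorem equivL_coL (a : A) (χ : Char (k := k) L) :
    TensorProduct.equivFinsuppOfBasisLeft (N := A) b (coL (k := k) L a) χ = sliceL (pr L b χ) a := by
  show TensorProduct.equivFinsuppOfBasisLeft (N := A) b
      (Algebra.TensorProduct.map (Ideal.Quotient.mkₐ k L) (AlgHom.id k A) (CoalgebraStruct.comul (R := k) a)) χ =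
    TensorProduct.lid k A ((pr L b χ).rTensor A (CoalgebraStruct.comul (R := k) a))
  induction CoalgebraStruct.comul (R := k) a with
  | zero => simp
  | add p q hp hq => simp only [map_add, Finsupp.add_apply, hp, hq]
  | tmul p q => simp [pr]

variable (hb : ∀ χ, b χ = χ.1)

include hb in
theorem coord_self (χ : Char (k := k) L) : b.coord χ χ.1 = 1 := by
  rw [← hb χ]; simp

include hb in
theorem mk_sliceR_pr (χ : Char (k := k) L) (a : A) :
    Ideal.Quotient.mkₐ k L (sliceR (pr L b χ) a) = pr L b χ a • χ.1 := by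
  classical
  let T : A ⧸ L →ₗ[k] A ⧸ L :=
    ((TensorProduct.rid k (A ⧸ L)).toLinearMap ∘ₗ (b.coord χ).lTensor (A ⧸ L)) ∘ₗ CoalgebraStruct.comul
  have hT : ∀ x, T x = b.coord χ x • χ.1 := fun x => by
    refine LinearMap.congr_fun (b.ext (f₁ := T) (f₂ := (b.coord χ).smulRight χ.1) fun ξ => ?_) x
    show TensorProduct.rid k _ ((b.coord χ).lTensor _ (CoalgebraStruct.comul (R := k) (b ξ))) = _
    rw [hb ξ, ξ.2.comul_eq_tmul_self, LinearMap.lTensor_tmul, TensorProduct.rid_tmul, LinearMap.smulRight_apply,
      ← hb ξ]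
    rcases eq_or_ne ξ χ with rfl | hne
    · rw [hb]
    · simp [hne]
  refine Eq.trans ?_ (hT (qm (k := k) L a))
  show _ = TensorProduct.rid k _ ((b.coord χ).lTensor _ (CoalgebraStruct.comul (R := k) (qm (k := k) L a)))
  rw [← map_qm_comul]
  show Ideal.Quotient.mkₐ k L (TensorProduct.rid k A ((pr L b χ).lTensor A (CoalgebraStruct.comul (R := k) a))) = _
  induction CoalgebraStruct.comul (R := k) a with
  | zero => simp
  | add p q hp hq => simp only [map_add, hp, hq]
  | tmul p q => simp [pr]

include hb in
theorem mk_sliceL_pr (χ : Char (k := k) L) (a : A) :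
    Ideal.Quotient.mkₐ k L (sliceL (pr L b χ) a) = pr L b χ a • χ.1 := by
  classical
  let T : A ⧸ L →ₗ[k] A ⧸ L :=
    ((TensorProduct.lid k (A ⧸ L)).toLinearMap ∘ₗ (b.coord χ).rTensor (A ⧸ L)) ∘ₗ CoalgebraStruct.comul
  have hT : ∀ x, T x = b.coord χ x • χ.1 := fun x => by
    refine LinearMap.congr_fun (b.ext (f₁ := T) (f₂ := (b.coord χ).smulRight χ.1) fun ξ => ?_) x
    show TensorProduct.lid k _ ((b.coord χ).rTensor _ (CoalgebraStruct.comul (R := k) (b ξ))) = _
    rw [hb ξ, ξ.2.comul_eq_tmul_self, LinearMap.rTensor_tmul, TensorProduct.lid_tmul, LinearMap.smulRight_apply,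
      ← hb ξ]
    rcases eq_or_ne ξ χ with rfl | hne
    · rw [hb]
    · simp [hne]
  refine Eq.trans ?_ (hT (qm (k := k) L a))
  show _ = TensorProduct.lid k _ ((b.coord χ).rTensor _ (CoalgebraStruct.comul (R := k) (qm (k := k) L a)))
  rw [← map_qm_comul]
  show Ideal.Quotient.mkₐ k L (TensorProduct.lid k A ((pr L b χ).rTensor A (CoalgebraStruct.comul (R := k) a))) = _
  induction CoalgebraStruct.comul (R := k) a with
  | zero => simp
  | add p q hp hq => simp only [map_add, hp, hq]
  | tmul p q => simp [pr]

include hb in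
theorem sliceR_pr_mem (χ : Char (k := k) L) (a : A) : sliceR (pr L b χ) a ∈ WR (k := k) L χ.1 := by
  rw [mem_WR]
  show Algebra.TensorProduct.map (AlgHom.id k A) (Ideal.Quotient.mkₐ k L)
    (CoalgebraStruct.comul (R := k) (sliceR (pr L b χ) a)) = _
  rw [comul_sliceR]
  show _ = TensorProduct.rid k A ((pr L b χ).lTensor A (CoalgebraStruct.comul (R := k) a)) ⊗ₜ[k] χ.1
  induction CoalgebraStruct.comul (R := k) a with
  | zero => simp
  | add p q hp hq => simp only [map_add, TensorProduct.add_tmul, hp, hq]
  | tmul p q =>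
    simp only [LinearMap.lTensor_tmul, Algebra.TensorProduct.map_tmul, mk_sliceR_pr L b hb, TensorProduct.tmul_smul,
      TensorProduct.rid_tmul, AlgHom.id_apply]
    rw [TensorProduct.smul_tmul']

include hb in
theorem sliceL_pr_mem (χ : Char (k := k) L) (a : A) : sliceL (pr L b χ) a ∈ WL (k := k) L χ.1 := by
  rw [mem_WL]
  show Algebra.TensorProduct.map (Ideal.Quotient.mkₐ k L) (AlgHom.id k A)
    (CoalgebraStruct.comul (R := k) (sliceL (pr L b χ) a)) = _
  rw [comul_sliceL]
  show _ = χ.1 ⊗ₜ[k] TensorProduct.lid k A ((pr L b χ).rTensor A (CoalgebraStruct.comul (R := k) a))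
  induction CoalgebraStruct.comul (R := k) a with
  | zero => simp
  | add p q hp hq => simp only [map_add, TensorProduct.tmul_add, hp, hq]
  | tmul p q =>
    simp only [LinearMap.rTensor_tmul, Algebra.TensorProduct.map_tmul, mk_sliceL_pr L b hb, TensorProduct.lid_tmul,
      AlgHom.id_apply]
    rw [← TensorProduct.smul_tmul', TensorProduct.tmul_smul]

include hb in
theorem sliceR_pr_of_mem (χ : Char (k := k) L) {a : A} (ha : a ∈ WR (k := k) L χ.1) :
    sliceR (pr L b χ) a = a := by
  rw [← equivR_coR, mem_WR.1 ha, TensorProduct.equivFinsuppOfBasisRight_apply_tmul_apply]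
  have h : b.repr χ.1 χ = 1 := coord_self L b hb χ
  rw [h, one_smul]

include hb in
theorem sliceL_pr_of_mem (χ : Char (k := k) L) {a : A} (ha : a ∈ WL (k := k) L χ.1) :
    sliceL (pr L b χ) a = a := by
  rw [← equivL_coL, mem_WL.1 ha, TensorProduct.equivFinsuppOfBasisLeft_apply_tmul_apply]
  have h : b.repr χ.1 χ = 1 := coord_self L b hb χ
  rw [h, one_smul]

theorem counit_sliceR (f : A →ₗ[k] k) (a : A) : CoalgebraStruct.counit (R := k) (sliceR f a) = f a := by
  have e : ∀ z : A ⊗[k] A, CoalgebraStruct.counit (R := k) (TensorProduct.rid k A (f.lTensor A z)) =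
      f (TensorProduct.lid k A ((CoalgebraStruct.counit (R := k)).rTensor A z)) := by
    intro z
    induction z with
    | zero => simp
    | add p q hp hq => simp only [map_add, hp, hq]
    | tmul p q => simp [mul_comm]
  refine (e _).trans ?_
  rw [Coalgebra.rTensor_counit_comul]
  simp

theorem counit_sliceL (f : A →ₗ[k] k) (a : A) : CoalgebraStruct.counit (R := k) (sliceL f a) = f a := by
  have e : ∀ z : A ⊗[k] A, CoalgebraStruct.counit (R := k) (TensorProduct.lid k A (f.rTensor A z)) =
      f (TensorProduct.rid k A ((CoalgebraStruct.counit (R := k)).lTensor A z)) := by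
    intro z
    induction z with
    | zero => simp
    | add p q hp hq => simp only [map_add, hp, hq]
    | tmul p q => simp [mul_comm]
  refine (e _).trans ?_
  rw [Coalgebra.lTensor_counit_comul]
  simp

include hb in
theorem span_WR : ⨆ χ : Char (k := k) L, WR (k := k) L χ.1 = ⊤ := by
  classical
  refine eq_top_iff.2 fun a _ => ?_
  let e := TensorProduct.equivFinsuppOfBasisRight (M := A) b
  have hz : coR (k := k) L a = (e (coR (k := k) L a)).sum fun i m => m ⊗ₜ[k] b i := by
    conv_lhs => rw [← e.symm_apply_apply (coR (k := k) L a)]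
    exact TensorProduct.equivFinsuppOfBasisRight_symm_apply b _
  have hc : TensorProduct.rid k A ((CoalgebraStruct.counit (R := k) (A := A ⧸ L)).lTensor A (coR (k := k) L a)) = a := by
    have e' : ∀ w : A ⊗[k] A, (CoalgebraStruct.counit (R := k)).lTensor A
        (Algebra.TensorProduct.map (AlgHom.id k A) (Ideal.Quotient.mkₐ k L) w) =
        (CoalgebraStruct.counit (R := k)).lTensor A w := by
      intro w
      induction w with
      | zero => simp
      | add p q hp hq => simp only [map_add, hp, hq]
      | tmul p q => exact congrArg (p ⊗ₜ[k] ·) (counit_qm L q)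
    refine (congrArg (TensorProduct.rid k A) (e' _)).trans ?_
    show TensorProduct.rid k A ((CoalgebraStruct.counit (R := k)).lTensor A (CoalgebraStruct.comul (R := k) a)) = a
    rw [Coalgebra.lTensor_counit_comul]
    simp
  rw [← hc, hz]
  simp only [Finsupp.sum, map_sum, LinearMap.lTensor_tmul, TensorProduct.rid_tmul]
  refine Submodule.sum_mem _ fun i _ => Submodule.smul_mem _ _ (Submodule.mem_iSup_of_mem i ?_)
  rw [equivR_coR]
  exact sliceR_pr_mem L b hb i a

include hb in
/-- Left components determine an element. -/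
theorem mem_WL_of_components (χ : Char (k := k) L) {a : A} (h : ∀ ξ, ξ ≠ χ → sliceL (pr L b ξ) a = 0) :
    a ∈ WL (k := k) L χ.1 := by
  classical
  have h1 : coL (k := k) L a = χ.1 ⊗ₜ[k] sliceL (pr L b χ) a := by
    refine (TensorProduct.equivFinsuppOfBasisLeft (N := A) b).injective (Finsupp.ext fun ξ => ?_)
    rw [equivL_coL (k := k) L b, TensorProduct.equivFinsuppOfBasisLeft_apply_tmul_apply, ← hb χ, b.repr_self]
    rcases eq_or_ne ξ χ with rfl | hne
    · rw [Finsupp.single_eq_same, one_smul]
    · rw [h ξ hne, Finsupp.single_eq_of_ne hne, zero_smul]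
  have hc : TensorProduct.lid k A ((CoalgebraStruct.counit (R := k) (A := A ⧸ L)).rTensor A (coL (k := k) L a)) = a := by
    have e' : ∀ w : A ⊗[k] A, (CoalgebraStruct.counit (R := k)).rTensor A
        (Algebra.TensorProduct.map (Ideal.Quotient.mkₐ k L) (AlgHom.id k A) w) =
        (CoalgebraStruct.counit (R := k)).rTensor A w := by
      intro w
      induction w with
      | zero => simp
      | add p q hp hq => simp only [map_add, hp, hq]
      | tmul p q => exact congrArg (· ⊗ₜ[k] q) (counit_qm L p)
    refine (congrArg (TensorProduct.lid k A) (e' _)).trans ?_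
    show TensorProduct.lid k A ((CoalgebraStruct.counit (R := k)).rTensor A (CoalgebraStruct.comul (R := k) a)) = a
    rw [Coalgebra.rTensor_counit_comul]
    simp
  rw [h1, LinearMap.rTensor_tmul, TensorProduct.lid_tmul, χ.2.counit_eq_one, one_smul] at hc
  rw [mem_WL, h1, hc]

theorem exists_charBasis (hQ : IsDiagonalizable k (A ⧸ L)) :
    ∃ b : Module.Basis (Char (k := k) L) k (A ⧸ L), ∀ χ, b χ = χ.1 :=
  ⟨Module.Basis.mk (linearIndepOn_isGroupLikeElem (R := k) (A := A ⧸ L)).linearIndependent (by
    have e : (Set.range fun x : Char (k := k) L => id x.1) = {x : A ⧸ L | IsGroupLikeElem k x} := Subtype.range_coe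
    refine le_of_eq_of_le rfl (hQ.ge.trans (le_of_eq ?_))
    exact congrArg (Submodule.span k) e.symm), fun χ => Module.Basis.mk_apply _ _ χ⟩

end Groth.Agent.RetrDesc20
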